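import Groth.Prelude.Def_Models
import Mathlib.Data.Real.Basic
import Mathlib.Tactic.Ring
import Mathlib.Tactic.Linarith
import Mathlib.Tactic.FieldSimp
import Mathlib.Algebra.Order.BigOperators.Group.Finset
import Mathlib.Data.ZMod.Basic

/-!
# Elementary facts about numerical types
-/

namespace Groth.Agent.NumTypeLib

open Finset

section General

variable {n : ℕ}

lemma conn_ind {α : Type*} [Zero α] (A : Matrix (Fin n) (Fin n) α)
    (hconn : ∀ I : Finset (Fin n), I.Nonempty → I ≠ univ → ∃ i ∈ I, ∃ j ∉ I, A i j ≠ 0)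
    (P : Fin n → Prop) (i₀ : Fin n) (h0 : P i₀)
    (hstep : ∀ i j, P i → A i j ≠ 0 → P j) : ∀ i, P i := by
  classical
  by_contra hne
  push Not at hne
  obtain ⟨k, hk⟩ := hne
  obtain ⟨i, hi, j, hj, hij⟩ := hconn (univ.filter P) ⟨i₀, by simp [h0]⟩ (fun h => hk (by
    have : k ∈ univ.filter P := by rw [h]; exact mem_univ k
    simpa using this))
  simp only [mem_filter, mem_univ, true_and] at hi hj
  exact hj (hstep i j hi hij)

lemma quad_identity (A : Matrix (Fin n) (Fin n) ℝ) (m x : Fin n → ℝ)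
    (hsymm : ∀ i j, A i j = A j i) (hm : ∀ i, m i ≠ 0) (hAm : ∀ i, ∑ j, A i j * m j = 0) :
    2 * ∑ i, ∑ j, A i j * x i * x j =
      - ∑ i, ∑ j, A i j * m i * m j * (x i / m i - x j / m j) ^ 2 := by
  have key : ∀ i j, A i j * m i * m j * (x i / m i - x j / m j) ^ 2 =
      A i j * m j * (x i ^ 2 / m i) + A j i * m i * (x j ^ 2 / m j) - 2 * (A i j * x i * x j) := by
    intro i j
    rw [hsymm j i]
    have := hm i; have := hm j
    field_simp
    ring
  simp only [key, sum_add_distrib, sum_sub_distrib, ← mul_sum]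
  have h1 : ∑ i, ∑ j, A i j * m j * (x i ^ 2 / m i) = 0 := by
    simp [← sum_mul, hAm]
  have h2 : ∑ i, ∑ j, A j i * m i * (x j ^ 2 / m j) = 0 := by
    rw [sum_comm]; exact h1
  rw [h1, h2]
  ring

lemma quad_nonpos (A : Matrix (Fin n) (Fin n) ℝ) (m x : Fin n → ℝ)
    (hsymm : ∀ i j, A i j = A j i) (hA : ∀ i j, i ≠ j → 0 ≤ A i j) (hm : ∀ i, 0 < m i)
    (hAm : ∀ i, ∑ j, A i j * m j = 0) : ∑ i, ∑ j, A i j * x i * x j ≤ 0 := by
  have h := quad_identity A m x hsymm (fun i => (hm i).ne') hAm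
  have : 0 ≤ ∑ i, ∑ j, A i j * m i * m j * (x i / m i - x j / m j) ^ 2 := by
    refine sum_nonneg fun i _ => sum_nonneg fun j _ => ?_
    rcases eq_or_ne i j with rfl | hij
    · simp
    · have := hA i j hij; have := hm i; have := hm j; positivity
  linarith

lemma quad_eq_zero (A : Matrix (Fin n) (Fin n) ℝ) (m x : Fin n → ℝ)
    (hsymm : ∀ i j, A i j = A j i) (hA : ∀ i j, i ≠ j → 0 ≤ A i j) (hm : ∀ i, 0 < m i)
    (hAm : ∀ i, ∑ j, A i j * m j = 0)
    (hconn : ∀ I : Finset (Fin n), I.Nonempty → I ≠ univ → ∃ i ∈ I, ∃ j ∉ I, A i j ≠ 0)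
    (h0 : ∑ i, ∑ j, A i j * x i * x j = 0) : ∀ i j, x i / m i = x j / m j := by
  have h := quad_identity A m x hsymm (fun i => (hm i).ne') hAm
  have hnn : ∀ i j, 0 ≤ A i j * m i * m j * (x i / m i - x j / m j) ^ 2 := by
    intro i j
    rcases eq_or_ne i j with rfl | hij
    · simp
    · have := hA i j hij; have := hm i; have := hm j; positivity
  have hz : ∀ i j, A i j * m i * m j * (x i / m i - x j / m j) ^ 2 = 0 := by
    intro i j
    have h1 : ∑ i, ∑ j, A i j * m i * m j * (x i / m i - x j / m j) ^ 2 = 0 := by linarith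
    rw [sum_eq_zero_iff_of_nonneg (fun i _ => sum_nonneg fun j _ => hnn i j)] at h1
    have h2 := h1 i (mem_univ i)
    rw [sum_eq_zero_iff_of_nonneg (fun j _ => hnn i j)] at h2
    exact h2 j (mem_univ j)
  intro i j
  refine conn_ind A hconn (fun k => x i / m i = x k / m k) i rfl (fun k l hk hkl => ?_) j
  have := hz k l
  have hk' := (hm k).ne'
  have hl' := (hm l).ne'
  simp only [mul_eq_zero, hkl, hk', hl', false_or, ne_eq, OfNat.ofNat_ne_zero, not_false_eq_true,
    pow_eq_zero_iff, sub_eq_zero] at this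
  exact hk.trans this

end General

section NT

variable {n : ℕ} (T : Models.NumericalType n)

lemma a_symm (i j : Fin n) : T.a i j = T.a j i := T.symm.apply j i

lemma sum_row (i : Fin n) : ∑ j, T.a i j * T.m j = 0 := congrFun T.mulVec_m i

lemma sum_row_erase (i : Fin n) :
    ∑ j ∈ univ.erase i, T.a i j * T.m j = -T.a i i * T.m i := by
  have h := sum_row T i
  rw [← add_sum_erase univ _ (mem_univ i)] at h
  linarith

lemma exists_adj (hn : 1 < n) (i : Fin n) : ∃ j, j ≠ i ∧ 0 < T.a i j := by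
  obtain ⟨i', hi', j, hj, hij⟩ := T.connected {i} ⟨i, mem_singleton_self i⟩ (fun h => by
    have := congrArg Finset.card h
    simp at this
    omega)
  simp only [mem_singleton] at hi' hj
  subst hi'
  exact ⟨j, hj, lt_of_le_of_ne (T.offDiag_nonneg _ _ (Ne.symm hj)) (Ne.symm hij)⟩

lemma diag_neg (hn : 1 < n) (i : Fin n) : T.a i i < 0 := by
  obtain ⟨j, hj, hpos⟩ := exists_adj T hn i
  have h := sum_row_erase T i
  have h2 : 0 < ∑ k ∈ univ.erase i, T.a i k * T.m k :=
    sum_pos' (fun k hk => mul_nonneg (T.offDiag_nonneg _ _ (ne_of_mem_erase hk).symm) (T.m_pos k).le)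
      ⟨j, mem_erase.2 ⟨hj, mem_univ j⟩, mul_pos hpos (T.m_pos j)⟩
  by_contra hge
  push Not at hge
  nlinarith [T.m_pos i]

lemma diag_nonpos (i : Fin n) : T.a i i ≤ 0 := by
  have h := sum_row_erase T i
  have h2 : 0 ≤ ∑ k ∈ univ.erase i, T.a i k * T.m k :=
    sum_nonneg (fun k hk => mul_nonneg (T.offDiag_nonneg _ _ (ne_of_mem_erase hk).symm) (T.m_pos k).le)
  by_contra hge
  push Not at hge
  nlinarith [T.m_pos i]

lemma w_le_of_pos {i j : Fin n} (h : 0 < T.a i j) : T.w i ≤ T.a i j := Int.le_of_dvd h (T.w_dvd i j)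

lemma w_le_of_pos' {i j : Fin n} (h : 0 < T.a i j) : T.w j ≤ T.a i j := by
  rw [a_symm] at h ⊢
  exact w_le_of_pos T h

lemma adj_ne {i j : Fin n} (h : 0 < T.a i j) : i ≠ j := by
  rintro rfl
  exact absurd h (not_lt.2 (diag_nonpos T i))

lemma neighbour_bound {i j : Fin n} (h : 0 < T.a i j) :
    T.m i * T.a i j ≤ T.m j * |T.a j j| ∧ T.m i * T.w i ≤ T.m j * |T.a j j| := by
  have hij := adj_ne T h
  have h1 := sum_row_erase T j
  have h2 : T.a j i * T.m i ≤ ∑ k ∈ univ.erase j, T.a j k * T.m k :=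
    single_le_sum (f := fun k => T.a j k * T.m k)
      (fun k hk => mul_nonneg (T.offDiag_nonneg _ _ (ne_of_mem_erase hk).symm) (T.m_pos k).le)
      (mem_erase.2 ⟨hij, mem_univ i⟩)
  have h3 := w_le_of_pos T h
  rw [abs_of_nonpos (diag_nonpos T j)]
  rw [a_symm T j i] at h2
  constructor
  · nlinarith
  · nlinarith [mul_le_mul_of_nonneg_left h3 (T.m_pos i).le]

/-- twice the contribution of an index to the genus -/
def term (i : Fin n) : ℤ := T.m i * (2 * T.w i * (T.g i - 1) - T.a i i)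

lemma two_dvd_diag : (2 : ℤ) ∣ ∑ i, T.m i * T.a i i := by
  classical
  rw [← Nat.cast_two, ← ZMod.intCast_zmod_eq_zero_iff_dvd]
  push_cast
  have h : (∑ p : Fin n × Fin n, ((T.m p.1 * T.a p.1 p.2 * T.m p.2 : ℤ) : ZMod 2)) = 0 := by
    rw [← Int.cast_sum, Fintype.sum_prod_type]
    simp [mul_assoc, ← mul_sum, sum_row]
  rw [← sum_filter_add_sum_filter_not univ (fun p : Fin n × Fin n => p.1 = p.2)] at h
  have h2 : ∑ p ∈ univ.filter (fun p : Fin n × Fin n => ¬p.1 = p.2),
      ((T.m p.1 * T.a p.1 p.2 * T.m p.2 : ℤ) : ZMod 2) = 0 := by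
    refine sum_involution (fun p _ => p.swap) (fun p _ => ?_) (fun p hp _ hc => ?_) (fun p hp => ?_)
      (fun p _ => p.swap_swap)
    · simp only [Prod.fst_swap, Prod.snd_swap]
      rw [a_symm T p.2 p.1, show T.m p.2 * T.a p.1 p.2 * T.m p.1 = T.m p.1 * T.a p.1 p.2 * T.m p.2 by ring]
      exact CharTwo.add_self_eq_zero _
    · simp only [mem_filter] at hp
      exact hp.2 (congrArg Prod.snd hc)
    · simp only [mem_filter, mem_univ, true_and, Prod.fst_swap, Prod.snd_swap] at hp ⊢
      exact Ne.symm hp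
  rw [h2, add_zero] at h
  have h3 : univ.filter (fun p : Fin n × Fin n => p.1 = p.2) = univ.diag := by
    ext p; simp
  rw [h3, sum_diag] at h
  rw [← h]
  refine sum_congr rfl fun i _ => ?_
  push_cast
  have : ∀ z : ZMod 2, z * z = z := by decide
  rw [mul_comm ((T.m i : ZMod 2) * _) (T.m i : ZMod 2), ← mul_assoc, this]

lemma two_genus : ∑ i, term T i = 2 * (T.genus - 1) := by
  obtain ⟨c, hc⟩ := two_dvd_diag T
  unfold term Models.NumericalType.genus
  rw [hc, Int.mul_ediv_cancel_left _ (by norm_num : (2:ℤ) ≠ 0)]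
  have : ∀ i, T.m i * (2 * T.w i * (T.g i - 1) - T.a i i) =
      2 * (T.m i * T.w i * (T.g i - 1)) - T.m i * T.a i i := fun i => by ring
  simp only [this, sum_sub_distrib, ← mul_sum, hc]
  ring

lemma minusOne_of_term_neg (hn : 1 < n) (i : Fin n) (h : term T i < 0) : T.IsMinusOne i := by
  have ha := diag_neg T hn i
  have hw := T.w_pos i
  have hg := T.g_nonneg i
  have h' : 2 * T.w i * (T.g i - 1) - T.a i i < 0 := by
    by_contra hc; push Not at hc
    exact absurd h (not_lt.2 (mul_nonneg (T.m_pos i).le hc))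
  have hg0 : T.g i = 0 := by
    by_contra hne
    have : 0 ≤ 2 * T.w i * (T.g i - 1) := mul_nonneg (by omega) (by omega)
    omega
  refine ⟨hg0, ?_⟩
  obtain ⟨k, hk⟩ := T.w_dvd i i
  rw [hg0] at h'
  have h1 : k < 0 := by
    by_contra hc; push Not at hc
    nlinarith
  have h2 : -2 < k := by
    by_contra hc; push Not at hc
    nlinarith
  have : k = -1 := by omega
  rw [hk, this]; ring

lemma term_nonneg (hn : 1 < n) {i : Fin n} (h : ¬ T.IsMinusOne i) : 0 ≤ term T i :=
  not_lt.1 fun hc => h (minusOne_of_term_neg T hn i hc)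

lemma minusTwo_of_term_zero (hn : 1 < n) (i : Fin n) (h : term T i = 0) : T.IsMinusTwo i := by
  have h' : 2 * T.w i * (T.g i - 1) - T.a i i = 0 := by
    rcases mul_eq_zero.1 h with h | h
    · exact absurd h (T.m_pos i).ne'
    · exact h
  have ha := diag_neg T hn i
  have hg := T.g_nonneg i
  have hg0 : T.g i = 0 := by
    by_contra hne
    have : 0 ≤ 2 * T.w i * (T.g i - 1) := mul_nonneg (by have := T.w_pos i; omega) (by omega)
    omega
  refine ⟨hg0, ?_⟩
  rw [hg0] at h'
  linarith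

lemma one_le_genus (hmin : T.IsMinimal) (hn : 1 < n) : 1 ≤ T.genus := by
  have h := two_genus T
  have : 0 ≤ ∑ i, term T i := sum_nonneg fun i _ => term_nonneg T hn (hmin i)
  linarith

lemma minusTwo_of_genus_one (hmin : T.IsMinimal) (hn : 1 < n) (hg : T.genus = 1) (i : Fin n) :
    T.IsMinusTwo i := by
  refine minusTwo_of_term_zero T hn i ?_
  have h := two_genus T
  rw [hg, sub_self, mul_zero, sum_eq_zero_iff_of_nonneg (fun i _ => term_nonneg T hn (hmin i))] at h
  exact h i (mem_univ i)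

/-- The quadratic form of a numerical type over the reals. -/
lemma kernel_prop {x : Fin n → ℤ} (hx : ∀ i, ∑ j, T.a i j * x j = 0) (i j : Fin n) :
    x i * T.m j = x j * T.m i := by
  let A : Matrix (Fin n) (Fin n) ℝ := fun i j => (T.a i j : ℝ)
  have h := quad_eq_zero A (fun i => (T.m i : ℝ)) (fun i => (x i : ℝ))
    (fun i j => by simp [A, a_symm T i j])
    (fun i j hij => by simpa [A] using T.offDiag_nonneg i j hij)
    (fun i => by simpa using T.m_pos i)
    (fun i => by simp only [A]; exact_mod_cast sum_row T i)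
    (fun I h1 h2 => by simpa [A] using T.connected I h1 h2)
    (by
      refine sum_eq_zero fun i _ => ?_
      simp only [A]
      rw [show ∑ j, (T.a i j : ℝ) * x i * x j = (x i : ℝ) * ((∑ j, T.a i j * x j : ℤ) : ℝ) by
        push_cast; rw [mul_sum]; exact sum_congr rfl fun j _ => by ring]
      simp [hx i]) i j
  have hi : (T.m i : ℝ) ≠ 0 := by exact_mod_cast (T.m_pos i).ne'
  have hj : (T.m j : ℝ) ≠ 0 := by exact_mod_cast (T.m_pos j).ne'
  rw [div_eq_div_iff hi hj] at h
  exact_mod_cast h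

lemma mul_picMatrix (i j : Fin n) : T.w i * T.picMatrix i j = T.a i j :=
  Int.mul_ediv_cancel' (T.w_dvd i j)

lemma mem_range_pic {y : Fin n → ℤ} :
    y ∈ LinearMap.range (Matrix.mulVecLin T.picMatrix) ↔
      ∃ x : Fin n → ℤ, ∀ i, T.w i * y i = ∑ j, T.a i j * x j := by
  constructor
  · rintro ⟨x, rfl⟩
    refine ⟨x, fun i => ?_⟩
    simp only [Matrix.mulVecLin_apply, Matrix.mulVec, dotProduct, mul_sum, ← mul_assoc, mul_picMatrix]
  · rintro ⟨x, hx⟩
    refine ⟨x, funext fun i => mul_left_cancel₀ (T.w_pos i).ne' ?_⟩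
    simp only [Matrix.mulVecLin_apply, Matrix.mulVec, dotProduct, mul_sum, ← mul_assoc, mul_picMatrix,
      hx i]

/-- relabel the indices of a numerical type -/
def perm (σ : Equiv.Perm (Fin n)) : Models.NumericalType n where
  m i := T.m (σ i)
  a := fun i j => T.a (σ i) (σ j)
  w i := T.w (σ i)
  g i := T.g (σ i)
  pos := T.pos
  m_pos i := T.m_pos _
  w_pos i := T.w_pos _
  g_nonneg i := T.g_nonneg _
  symm := Matrix.IsSymm.ext fun i j => T.symm.apply (σ i) (σ j)
  offDiag_nonneg i j h := T.offDiag_nonneg _ _ (fun e => h (σ.injective e))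
  connected I h1 h2 := by
    obtain ⟨i, hi, j, hj, hij⟩ := T.connected (I.map σ.toEmbedding) (h1.map) (fun h => h2 (by
      apply eq_univ_of_forall
      intro k
      have : σ k ∈ I.map σ.toEmbedding := h ▸ mem_univ _
      simpa using this))
    simp only [mem_map_equiv] at hi hj
    exact ⟨σ.symm i, hi, σ.symm j, hj, by simpa using hij⟩
  mulVec_m := funext fun i => by
    have := sum_row T (σ i)
    rw [← Equiv.sum_comp σ] at this
    exact this
  w_dvd i j := T.w_dvd _ _

lemma perm_genus (σ : Equiv.Perm (Fin n)) : (perm T σ).genus = T.genus := by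
  have h1 := two_genus T
  have h2 := two_genus (perm T σ)
  have : ∑ i, term (perm T σ) i = ∑ i, term T i := Equiv.sum_comp σ (term T)
  linarith

end NT

end Groth.Agent.NumTypeLib
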