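import Groth.Agent.NumTypeLib.Config
import Mathlib.Data.Fin.Rev

/-!
# Chains of (-2)-indices
-/

namespace Groth.Agent.NumTypeLib

open Finset

variable {n t : ℕ} (T : Models.NumericalType n)

/-- `v` is a chain of (-2)-indices forming a proper subset of the indices -/
structure Chain (v : Fin t → Fin n) : Prop where
  inj : Function.Injective v
  lt : t < n
  two : ∀ i, T.IsMinusTwo (v i)
  pos : ∀ i j : Fin t, j.val = i.val + 1 → 0 < T.a (v i) (v j)

variable {T}
variable {v : Fin t → Fin n}

lemma Chain.of_ne (hv : Function.Injective v) (hn : t < n) (htwo : ∀ i, T.IsMinusTwo (v i))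
    (h : ∀ i j : Fin t, j.val = i.val + 1 → T.a (v i) (v j) ≠ 0) : Chain T v :=
  ⟨hv, hn, htwo, fun i j hij =>
    lt_of_le_of_ne (T.offDiag_nonneg _ _ (hv.ne (fun e => by subst e; omega))) (Ne.symm (h i j hij))⟩

lemma Chain.rev (h : Chain T v) : Chain T (fun i => v i.rev) where
  inj := h.inj.comp Fin.rev_injective
  lt := h.lt
  two i := h.two _
  pos i j hij := by
    rw [a_symm]
    exact h.pos _ _ (by simp only [Fin.val_rev]; omega)

lemma Chain.zero (h : Chain T v) (i j : Fin t) (hij : i.val + 1 < j.val) : T.a (v i) (v j) = 0 := by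
  refine tree_zero T v h.inj (by simpa using h.lt) h.two
    (⟨fun e => ⟨e.val, by omega⟩, fun e => ⟨e.val + 1, by omega⟩⟩ : Edges (Fin t) (Fin (t - 1))) ⟨?_, ?_⟩
    (fun e => h.pos _ _ rfl) (by simp only [Fintype.card_fin]; omega) i j
    (fun e => by subst e; omega) (fun e => ⟨?_, ?_⟩)
  · intro e e' h1 _
    exact Fin.ext (Fin.mk.inj_iff.1 h1)
  · intro e e' h1 h2
    have := Fin.mk.inj_iff.1 h1
    have := Fin.mk.inj_iff.1 h2
    omega
  · rintro ⟨h1, h2⟩
    have := congrArg Fin.val h1
    have := congrArg Fin.val h2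
    simp only at *; omega
  · rintro ⟨h1, h2⟩
    have := congrArg Fin.val h1
    have := congrArg Fin.val h2
    simp only at *; omega

lemma Chain.zero' (h : Chain T v) (i j : Fin t) (hij : i.val + 1 < j.val) : T.a (v j) (v i) = 0 := by
  rw [a_symm]; exact h.zero i j hij

lemma Chain.two_heavy (h : Chain T v) (i i' j j' : Fin t) (hi : i'.val = i.val + 1)
    (hj : j'.val = j.val + 1) (hlt : i.val < j.val) (h1 : Heavy T (v i) (v i'))
    (h2 : Heavy T (v j) (v j')) : False := by
  have hn := h.lt
  refine double_heavy T (j.val - i.val - 1)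
    (fun x : Fin (j.val - i.val - 1 + 3) => v ⟨i.val + x.val, by omega⟩) ?_ (by omega) (fun _ => h.two _)
    (fun x => h.pos _ _ (by simp only [Fin.val_castSucc, Fin.val_succ]; omega)) ?_ ?_
  · intro x y hxy
    have := Fin.mk.inj_iff.1 (h.inj hxy)
    exact Fin.ext (by omega)
  · convert h1 using 2 <;> ext <;> simp [hi]
  · convert h2 using 2 <;> ext <;> simp <;> omega

lemma Chain.edge (h : Chain T v) (ht : 3 ≤ t) (i j : Fin t) (hij : j.val = i.val + 1) :
    Simple T (v i) (v j) ∨ Up T (v i) (v j) ∨ Up T (v j) (v i) := by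
  have hn := h.lt
  by_cases hj : j.val + 1 < t
  · exact edge2 T (by omega) (h.two _) (h.two _) (h.two ⟨j.val + 1, hj⟩)
      (h.inj.ne (Fin.ne_of_val_ne (by simp only; omega))) (h.inj.ne (Fin.ne_of_val_ne (by simp only; omega)))
      (h.pos i j hij) (Or.inr (h.pos _ _ rfl))
  · exact edge2 T (by omega) (h.two _) (h.two _) (h.two ⟨i.val - 1, by omega⟩)
      (h.inj.ne (Fin.ne_of_val_ne (by simp only; omega))) (h.inj.ne (Fin.ne_of_val_ne (by simp only; omega)))
      (h.pos i j hij) (Or.inl (by rw [a_symm]; exact h.pos _ _ (by simp only; omega)))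

lemma Chain.interior (h : Chain T v) (i j : Fin t) (hij : j.val = i.val + 1) (h1 : 1 ≤ i.val)
    (h2 : j.val + 1 < t) (h5 : 5 ≤ t) (hh : Heavy T (v i) (v j)) : False := by
  have hn := h.lt
  by_cases hi : 2 ≤ i.val
  · refine middle_heavy T (fun x : Fin 5 => v ⟨i.val - 2 + x.val, by omega⟩) ?_ (by omega)
      (fun _ => h.two _) ?_ ?_ ?_ ?_
    · intro x y hxy
      have := Fin.mk.inj_iff.1 (h.inj hxy)
      exact Fin.ext (by omega)
    · exact h.pos _ _ (by simp)
    · exact h.pos _ _ (by simp <;> omega)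
    · exact h.pos _ _ (by simp <;> omega)
    · convert hh using 2 <;> ext <;> simp <;> omega
  · refine middle_heavy T (fun x : Fin 5 => v ⟨4 - x.val, by omega⟩) ?_ (by omega)
      (fun _ => h.two _) ?_ ?_ ?_ ?_
    · intro x y hxy
      have := Fin.mk.inj_iff.1 (h.inj hxy)
      exact Fin.ext (by omega)
    · rw [a_symm]; exact h.pos _ _ (by simp)
    · rw [a_symm]; exact h.pos _ _ (by simp)
    · rw [a_symm]; exact h.pos _ _ (by simp)
    · convert hh.symm T using 2 <;> ext <;> simp <;> omega

lemma Chain.interior_simple (h : Chain T v) (i j : Fin t) (hij : j.val = i.val + 1) (h1 : 1 ≤ i.val)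
    (h2 : j.val + 1 < t) (h5 : 5 ≤ t) : Simple T (v i) (v j) := by
  rcases h.edge (by omega) i j hij with e | e | e
  · exact e
  · exact (h.interior i j hij h1 h2 h5 (e.heavy T)).elim
  · exact (h.interior i j hij h1 h2 h5 (e.heavy' T)).elim

/-- either the first edge is simple, or it is so after reversing -/
lemma Chain.orient (h : Chain T v) (ht : 3 ≤ t) (a b c d : Fin t) (ha : a.val = 0) (hb : b.val = 1)
    (hc : c.val + 2 = t) (hd : d.val + 1 = t) : Simple T (v a) (v b) ∨ Simple T (v d) (v c) := by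
  rcases simple_or_heavy T (by have := h.lt; omega) (h.two a) (h.two b) (h.pos a b (by omega)) with e | e
  · exact Or.inl e
  rcases simple_or_heavy T (by have := h.lt; omega) (h.two c) (h.two d) (h.pos c d (by omega)) with f | f
  · exact Or.inr (f.symm T)
  exact (h.two_heavy a b c d (by omega) (by omega) (by omega) e f).elim

end Groth.Agent.NumTypeLib
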