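import Groth.Agent.NumTypeLib.Config
import Groth.Agent.NumTypeLib.Chain
import Mathlib.Data.Finset.Max
import Mathlib.Tactic.FinCases

/-!
# The bound on `m i * |a i j|` for minimal numerical types
-/

namespace Groth.Agent.NumTypeLib

open Finset Real

variable {n : ℕ} (T : Models.NumericalType n)

/-- `i` is joined through `k` steps of (-2)-indices to an index which is not a (-2)-index -/
def Reach : ℕ → Fin n → Prop
  | 0, i => T.IsMinusTwo i ∧ ∃ j, ¬T.IsMinusTwo j ∧ 0 < T.a i j
  | k + 1, i => T.IsMinusTwo i ∧ ∃ l, 0 < T.a i l ∧ Reach k l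

variable {T}

lemma Reach.two : ∀ {k : ℕ} {i : Fin n}, Reach T k i → T.IsMinusTwo i
  | 0, _, h => h.1
  | _ + 1, _, h => h.1

lemma pos_of_ne {i j : Fin n} (hij : i ≠ j) (h : T.a i j ≠ 0) : 0 < T.a i j :=
  lt_of_le_of_ne (T.offDiag_nonneg _ _ hij) (Ne.symm h)

lemma exists_reach {j₀ : Fin n} (hj : ¬T.IsMinusTwo j₀) (i : Fin n) (hi : T.IsMinusTwo i) :
    ∃ k, Reach T k i := by
  revert hi
  refine conn_ind T.a T.connected (fun i => T.IsMinusTwo i → ∃ k, Reach T k i) j₀ (fun h => absurd h hj) ?_ i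
  intro u v hu huv hv
  by_cases hne : u = v
  · exact hne ▸ hu (hne ▸ hv)
  have hpos : 0 < T.a v u := by rw [a_symm]; exact pos_of_ne hne huv
  by_cases h2 : T.IsMinusTwo u
  · obtain ⟨k, hk⟩ := hu h2
    exact ⟨k + 1, hv, u, hpos, hk⟩
  · exact ⟨0, hv, u, h2, hpos⟩

/-- `i` is exactly `k` steps away -/
def Dist (T : Models.NumericalType n) (k : ℕ) (i : Fin n) : Prop :=
  Reach T k i ∧ ∀ l < k, ¬Reach T l i

lemma Dist.uniq {k l : ℕ} {i : Fin n} (h : Dist T k i) (h' : Dist T l i) : k = l := by
  rcases lt_trichotomy k l with e | e | e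
  · exact absurd h.1 (h'.2 k e)
  · exact e
  · exact absurd h'.1 (h.2 l e)

lemma Dist.ne {k l : ℕ} {i j : Fin n} (h : Dist T k i) (h' : Dist T l j) (hkl : k ≠ l) : i ≠ j :=
  fun e => hkl (h.uniq (e ▸ h'))

lemma Dist.step {k : ℕ} {i : Fin n} (h : Dist T (k + 1) i) :
    ∃ l, 0 < T.a i l ∧ Dist T k l := by
  obtain ⟨hi, l, hil, hl⟩ := h.1
  exact ⟨l, hil, hl, fun s hs hsl => h.2 (s + 1) (by omega) ⟨hi, l, hil, hsl⟩⟩

lemma Dist.nbr {k : ℕ} {i y : Fin n} (h : Dist T (k + 1) i) (hy : 0 < T.a i y) :
    T.IsMinusTwo y ∧ ∀ l < k, ¬Reach T l y :=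
  ⟨by_contra fun hc => h.2 0 (by omega) ⟨h.1.two, y, hc, hy⟩,
    fun l hl hly => h.2 (l + 1) (by omega) ⟨h.1.two, y, hy, hly⟩⟩

lemma step_bound {i l : Fin n} (hl : T.IsMinusTwo l) (h : 0 < T.a i l) :
    T.m i * T.w i ≤ 2 * (T.m l * T.w l) := by
  have := (neighbour_bound T h).2
  rw [hl.2, abs_of_nonpos (by linarith [T.w_pos l])] at this
  linarith

lemma reach_bound (B : ℤ) (hB : ∀ j, ¬T.IsMinusTwo j → T.m j * |T.a j j| ≤ B) :
    ∀ k i, Reach T k i → T.m i * T.w i ≤ 2 ^ k * B := by
  intro k
  induction k with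
  | zero =>
    rintro i ⟨-, j, hj, hij⟩
    simpa using (neighbour_bound T hij).2.trans (hB j hj)
  | succ k ih =>
    rintro i ⟨-, l, hil, hl⟩
    refine (step_bound hl.two hil).trans ?_
    rw [pow_succ]
    linarith [ih l hl]

set_option maxHeartbeats 4000000 in
/-- among the (-2)-indices an index of maximal `m * w` can be chosen near the others -/
lemma far_has_larger {j₀ : Fin n} (hj₀ : ¬T.IsMinusTwo j₀) {D : ℕ} {u : Fin n} (hu : Dist T (D + 5) u)
    (hmax : ∀ y, T.IsMinusTwo y → T.m y * T.w y ≤ T.m u * T.w u) :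
    ∃ l, Dist T (D + 4) l ∧ T.m l * T.w l = T.m u * T.w u := by
  obtain ⟨u1, a1, d1⟩ := hu.step
  obtain ⟨u2, a2, d2⟩ := d1.step
  obtain ⟨u3, a3, d3⟩ := d2.step
  obtain ⟨u4, a4, d4⟩ := d3.step
  obtain ⟨u5, a5, d5⟩ := d4.step
  refine ⟨u1, d1, ?_⟩
  by_contra hne'
  have hlt : T.m u1 * T.w u1 < T.m u * T.w u := lt_of_le_of_ne (hmax u1 d1.1.two) hne'
  have proper : ∀ {N : ℕ} (v : Fin N → Fin n), Function.Injective v → (∀ i, T.IsMinusTwo (v i)) → N < n := by
    intro N v hv htwo
    have := Fintype.card_lt_of_injective_of_notMem v hv (b := j₀) (by rintro ⟨i, rfl⟩; exact hj₀ (htwo i))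
    simpa using this
  have htu := hu.1.two
  have ht1 := d1.1.two
  have ht2 := d2.1.two
  have ht3 := d3.1.two
  have ht4 := d4.1.two
  have ht5 := d5.1.two
  have n01 := hu.ne d1 (by omega)
  have n02 := hu.ne d2 (by omega)
  have n03 := hu.ne d3 (by omega)
  have n04 := hu.ne d4 (by omega)
  have n05 := hu.ne d5 (by omega)
  have n12 := d1.ne d2 (by omega)
  have n13 := d1.ne d3 (by omega)
  have n14 := d1.ne d4 (by omega)
  have n15 := d1.ne d5 (by omega)
  have n23 := d2.ne d3 (by omega)
  have n24 := d2.ne d4 (by omega)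
  have n25 := d2.ne d5 (by omega)
  have n34 := d3.ne d4 (by omega)
  have n35 := d3.ne d5 (by omega)
  have n45 := d4.ne d5 (by omega)
  -- the neighbours of `u` other than `u1`
  have nb : ∀ k, 0 < T.a u k → k ≠ u1 → T.IsMinusTwo k ∧ k ≠ u ∧ k ≠ u2 ∧ k ≠ u3 ∧ k ≠ u4 ∧ k ≠ u5 := by
    intro k hk _
    obtain ⟨h2, hd⟩ := hu.nbr hk
    exact ⟨h2, (adj_ne T hk).symm, fun e => hd _ (by omega) (e ▸ d2.1), fun e => hd _ (by omega) (e ▸ d3.1),
      fun e => hd _ (by omega) (e ▸ d4.1), fun e => hd _ (by omega) (e ▸ d5.1)⟩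
  have hcard : 5 < n := by
    have := proper ![u, u1, u2, u3, u4, u5] (by
      intro a b e
      fin_cases a <;> fin_cases b <;> first | rfl | (simp at e; done) | (simp at e; first | exact absurd e (by assumption) | exact absurd e.symm (by assumption))) (by intro a; fin_cases a <;> assumption)
    omega
  -- a neighbour of such a neighbour
  have nb2 : ∀ k y, 0 < T.a u k → k ≠ u1 → 0 < T.a k y → y ≠ u →
      T.IsMinusTwo y ∧ y ≠ k ∧ y ≠ u1 ∧ y ≠ u2 ∧ y ≠ u3 ∧ y ≠ u4 ∧ y ≠ u5 := by
    intro k y hk hk1 hy hyu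
    obtain ⟨hk2, hku, hk3, hk4, hk5, hk6⟩ := nb k hk hk1
    obtain ⟨-, hd⟩ := hu.nbr hk
    have hfar : ∀ l < D + 3, ¬Reach T l y := fun l hl hly =>
      hd (l + 1) (by omega) ⟨hk2, y, hy, hly⟩
    have hy2 : T.IsMinusTwo y := by
      by_contra hc
      exact hd 0 (by omega) ⟨hk2, y, hc, hy⟩
    have ch : Chain T ![k, u, u1, u2] := by
      refine ⟨?_, ?_, ?_, ?_⟩
      · intro a b e
        fin_cases a <;> fin_cases b <;> first | rfl | (simp at e; done) | (simp at e; first | exact absurd e (by assumption) | exact absurd e.symm (by assumption))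
      · omega
      · intro a; fin_cases a <;> assumption
      · intro a b hab
        fin_cases a <;> fin_cases b <;> simp at hab <;> first | exact a2 | exact a1 | (rw [a_symm]; exact hk)
    have z1 : T.a k u1 = 0 := ch.zero 0 2 (by decide)
    have z2 : T.a k u2 = 0 := ch.zero 0 3 (by decide)
    exact ⟨hy2, (adj_ne T hy).symm, fun e => absurd (e ▸ hy) (by rw [z1]; omega),
      fun e => absurd (e ▸ hy) (by rw [z2]; omega), fun e => hfar _ (by omega) (e ▸ d3.1),
      fun e => hfar _ (by omega) (e ▸ d4.1), fun e => hfar _ (by omega) (e ▸ d5.1)⟩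
  rcases simple_or_heavy T (by omega) htu ht1 a1 with s1 | h1
  swap
  · -- heavy edge `u — u1`
    have only : ∀ k, 0 < T.a u k → k = u1 := by
      intro k hk
      by_contra hk1
      obtain ⟨hk2, hku, hk3, hk4, hk5, hk6⟩ := nb k hk hk1
      refine middle_heavy T ![u3, u2, u1, u, k] ?_ hcard ?_ (by simpa [a_symm T u3] using a3)
        (by simpa [a_symm T u2] using a2) (by simpa using hk) (h1.symm T)
      · intro a b e
        fin_cases a <;> fin_cases b <;> first | rfl | (simp at e; done) | (simp at e; first | exact absurd e (by assumption) | exact absurd e.symm (by assumption))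
      · intro a; fin_cases a <;> assumption
    have hrow := sum_row_erase T u
    rw [Finset.sum_eq_single u1 (fun b hb hb1 => by
        have hne := ne_of_mem_erase hb
        rcases (T.offDiag_nonneg u b hne.symm).eq_or_lt' with h | h
        · rw [h, zero_mul]
        · exact absurd (only b h) hb1) (fun h => absurd (mem_erase.2 ⟨n01.symm, mem_univ _⟩) h),
      htu.2] at hrow
    have := T.m_pos u1
    have := T.w_pos u1
    rcases edge_split T (by omega) htu ht1 a1 with ⟨ea, ew⟩ | ⟨c, hc, ⟨ew, ea⟩ | ⟨ew, ea⟩⟩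
    · rw [ea] at hrow; rw [ew] at hlt; nlinarith
    · rw [ea] at hrow; rw [ew] at hlt; rcases hc with rfl | rfl <;> nlinarith
    · rw [ea, ew] at hrow; rw [ew] at hlt
      rcases hc with rfl | rfl
      · nlinarith
      · exact triple_adj T (by omega) htu ht1 ht2 n02 a1 a2 (by rw [ea, ew]; nlinarith)
  · -- simple edge `u — u1`
    obtain ⟨sa, sw⟩ := s1
    have hrow := sum_row_erase T u
    rw [← add_sum_erase _ _ (mem_erase.2 ⟨n01.symm, mem_univ _⟩ : u1 ∈ univ.erase u), htu.2, sa] at hrow
    rw [sw] at hlt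
    set S := ((univ.erase u).erase u1).filter (fun k => 0 < T.a u k) with hS
    have hsum : ∑ k ∈ (univ.erase u).erase u1, T.a u k * T.m k = ∑ k ∈ S, T.a u k * T.m k := by
      refine (sum_subset (filter_subset _ _) fun k hk hk' => ?_).symm
      have hne := ne_of_mem_erase (mem_of_mem_erase hk)
      rcases (T.offDiag_nonneg u k hne.symm).eq_or_lt' with h | h
      · rw [h, zero_mul]
      · exact absurd (mem_filter.2 ⟨hk, h⟩) hk'
    rw [hsum] at hrow
    have hbig : T.w u * T.m u < ∑ k ∈ S, T.a u k * T.m k := by nlinarith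
    have memS : ∀ k ∈ S, 0 < T.a u k ∧ k ≠ u1 ∧ k ≠ u := fun k hk =>
      ⟨(mem_filter.1 hk).2, ne_of_mem_erase (mem_filter.1 hk).1,
        ne_of_mem_erase (mem_of_mem_erase (mem_filter.1 hk).1)⟩
    -- at most two further neighbours
    have hle2 : S.card ≤ 2 := by
      by_contra hc
      obtain ⟨k, l, o, hk, hl, ho, hkl, hko, hlo⟩ := two_lt_card_iff.1 (by omega : 2 < S.card)
      obtain ⟨ka, k1, ku⟩ := memS k hk
      obtain ⟨la, l1, lu⟩ := memS l hl
      obtain ⟨oa, o1, ou⟩ := memS o ho
      have := (nb k ka k1).1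
      have := (nb l la l1).1
      have := (nb o oa o1).1
      refine double_fork T 0 (Sum.elim (Sum.elim (fun b => if b then k else l) (fun b => if b then o else u1))
        (fun _ => u)) ?_ hcard ?_ ?_ ?_ (fun i => i.elim0)
      · rintro ((a | a) | a) ((b | b) | b) e <;> (try fin_cases a) <;> (try fin_cases b) <;> first | rfl | (simp at e; done) | (simp at e; first | exact absurd e (by assumption) | exact absurd e.symm (by assumption))
      · rintro ((a | a) | a) <;> (try fin_cases a) <;> assumption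
      · intro b; rw [a_symm]; cases b <;> assumption
      · intro b; rw [a_symm]; cases b <;> assumption
    -- each of them is a leaf
    have leaf : ∀ k ∈ S, (S.card = 2 ∨ Heavy T u k) → ∀ y, 0 < T.a k y → y = u := by
      intro k hk hcase y hy
      by_contra hyu
      obtain ⟨ka, k1, ku⟩ := memS k hk
      obtain ⟨hk2, -, k2, k3, k4, k5⟩ := nb k ka k1
      obtain ⟨hy2, hyk, y1, y2, y3, y4, y5⟩ := nb2 k y ka k1 hy hyu
      rcases hcase with hcase | hh
      · obtain ⟨a, b, hab, hSab⟩ := card_eq_two.1 hcase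
        obtain ⟨l, hl, hlk⟩ : ∃ l ∈ S, l ≠ k := by
          by_cases e : a = k
          · exact ⟨b, by simp [hSab], fun e' => hab (e.trans e'.symm)⟩
          · exact ⟨a, by simp [hSab], e⟩
        obtain ⟨la, l1, lu⟩ := memS l hl
        obtain ⟨hl2, -, l2, l3, l4, l5⟩ := nb l la l1
        have z : T.a k l = 0 := by
          refine tree_zero T ![k, u, l] ?_ (by simp; omega) ?_ (⟨![0, 1], ![1, 2]⟩ : Edges (Fin 3) (Fin 2))
            (by decide) ?_ (by simp) 0 2 (by decide) (by decide)
          · intro a b e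
            fin_cases a <;> fin_cases b <;> first | rfl | (simp at e; done) | (simp at e; first | exact absurd e (by assumption) | exact absurd e.symm (by assumption))
          · intro a; fin_cases a <;> assumption
          · intro a; fin_cases a <;> first | exact la | (rw [a_symm]; exact ka)
        have yl : y ≠ l := fun e => absurd (e ▸ hy) (by rw [z]; omega)
        have e1 : 0 < T.a u5 u4 := by rw [a_symm]; exact a5
        have e2 : 0 < T.a u4 u3 := by rw [a_symm]; exact a4
        have e3 : 0 < T.a u3 u2 := by rw [a_symm]; exact a3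
        have e4 : 0 < T.a u2 u1 := by rw [a_symm]; exact a2
        have e5 : 0 < T.a u1 u := by rw [a_symm]; exact a1
        have e6 : 0 < T.a l u := by rw [a_symm]; exact la
        have hinj : Function.Injective ![u5, u4, u3, u2, u1, u, k, y, l] := by
          intro a b e
          fin_cases a <;> fin_cases b <;> first | rfl | (simp at e; done) | (simp at e; first | exact absurd e (by assumption) | exact absurd e.symm (by assumption))
        have htwo : ∀ a, T.IsMinusTwo (![u5, u4, u3, u2, u1, u, k, y, l] a) := by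
          intro a; fin_cases a <;> assumption
        refine no_test T _ hinj (by simpa using proper _ hinj htwo) htwo
          (⟨![0, 1, 2, 3, 4, 5, 6, 8], ![1, 2, 3, 4, 5, 6, 7, 5]⟩ : Edges (Fin 9) (Fin 8)) (by decide)
          (fun _ => 1) ?_ ?_ ![1, 2, 3, 4, 5, 6, 4, 2, 3] ?_ 0 (by simp) ?_
        · intro e; fin_cases e <;> assumption
        · intro e; fin_cases e <;> exact one_ww T (by assumption)
        · intro a; fin_cases a <;> simp
        · simp [Fin.sum_univ_succ]; norm_num
      · refine middle_heavy T ![u2, u1, u, k, y] ?_ hcard ?_ (by simpa [a_symm T u2] using a2)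
          (by simpa [a_symm T u1] using a1) (by simpa using hy) (by simpa using hh)
        · intro a b e
          fin_cases a <;> fin_cases b <;> first | rfl | (simp at e; done) | (simp at e; first | exact absurd e (by assumption) | exact absurd e.symm (by assumption))
        · intro a; fin_cases a <;> assumption
    have leafrow : ∀ k ∈ S, (∀ y, 0 < T.a k y → y = u) → T.a k u * T.m u = 2 * T.w k * T.m k := by
      intro k hk honly
      obtain ⟨ka, k1, ku⟩ := memS k hk
      have h := sum_row_erase T k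
      rw [Finset.sum_eq_single u (fun b hb hb1 => by
          rcases (T.offDiag_nonneg k b (ne_of_mem_erase hb).symm).eq_or_lt' with h | h
          · rw [h, zero_mul]
          · exact absurd (honly b h) hb1) (fun h => absurd (mem_erase.2 ⟨ku.symm, mem_univ _⟩) h),
        (nb k ka k1).1.2] at h
      linarith
    have hwu := T.w_pos u
    have hmu := T.m_pos u
    rcases (by omega : S.card = 0 ∨ S.card = 1 ∨ S.card = 2) with h | h | h
    · rw [card_eq_zero.1 h, sum_empty] at hbig; nlinarith
    · obtain ⟨k, hSk⟩ := card_eq_one.1 h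
      rw [hSk, sum_singleton] at hbig
      have hk : k ∈ S := by simp [hSk]
      obtain ⟨ka, k1, ku⟩ := memS k hk
      obtain ⟨hk2, -, k2, k3, k4, k5⟩ := nb k ka k1
      have hwk := T.w_pos k
      have hmk := hmax k hk2
      rcases edge2 T (by omega) htu hk2 ht1 n01 k1 ka (Or.inl a1) with ⟨ea, ew⟩ | e | e
      · rw [ea] at hbig; rw [ew] at hmk; nlinarith
      · rw [e.2] at hbig; rw [e.1] at hmk; nlinarith
      · have hr := leafrow k hk (leaf k hk (Or.inr (e.heavy' T)))
        have hea : T.a u k = 2 * T.w k := by rw [a_symm]; exact e.2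
        rw [hea, e.1] at hbig
        rw [e.2] at hr
        nlinarith
    · obtain ⟨k, l, hkl, hSkl⟩ := card_eq_two.1 h
      rw [hSkl, sum_pair hkl] at hbig
      have hk : k ∈ S := by simp [hSkl]
      have hl : l ∈ S := by simp [hSkl]
      obtain ⟨ka, k1, ku⟩ := memS k hk
      obtain ⟨la, l1, lu⟩ := memS l hl
      obtain ⟨hk2, -, k2, k3, k4, k5⟩ := nb k ka k1
      obtain ⟨hl2, -, l2, l3, l4, l5⟩ := nb l la l1
      have simp' : ∀ k l, k ≠ l → k ∈ S → l ∈ S → Simple T u k := by
        intro k l hkl hk hl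
        obtain ⟨ka, k1, ku⟩ := memS k hk
        obtain ⟨la, l1, lu⟩ := memS l hl
        have hk2 := (nb k ka k1).1
        have hl2 := (nb l la l1).1
        refine (simple_or_heavy T (by omega) htu hk2 ka).resolve_right fun hh => ?_
        refine fork_heavy T 0 (Sum.elim (fun b => if b then l else u1) ![u, k]) ?_ (by omega) ?_ ?_ ?_ (by simpa using hh)
        · rintro (a | a) (b | b) e <;> (try fin_cases a) <;> (try fin_cases b) <;> first | rfl | (simp at e; done) | (simp at e; first | exact absurd e (by assumption) | exact absurd e.symm (by assumption))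
        · rintro (a | a) <;> (try fin_cases a) <;> assumption
        · intro b; rw [a_symm]; cases b <;> assumption
        · intro a; fin_cases a; exact ka
      obtain ⟨ea, ew⟩ := simp' k l hkl hk hl
      obtain ⟨fa, fw⟩ := simp' l k hkl.symm hl hk
      have r1 := leafrow k hk (leaf k hk (Or.inl h))
      have r2 := leafrow l hl (leaf l hl (Or.inl h))
      rw [a_symm, ea, ew] at r1
      rw [a_symm, fa, fw] at r2
      rw [ea, fa] at hbig
      nlinarith

theorem minusTwo_bound (B : ℤ) (hB0 : 0 ≤ B) (hB : ∀ j, ¬T.IsMinusTwo j → T.m j * |T.a j j| ≤ B)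
    {j₀ : Fin n} (hj₀ : ¬T.IsMinusTwo j₀) (i : Fin n) (hi : T.IsMinusTwo i) :
    T.m i * T.w i ≤ 16 * B := by
  classical
  obtain ⟨u, hu, hmax⟩ := (univ.filter fun k => T.IsMinusTwo k).exists_max_image
    (fun k => T.m k * T.w k) ⟨i, by simp [hi]⟩
  simp only [mem_filter, mem_univ, true_and] at hu hmax
  refine (hmax i hi).trans ?_
  suffices ∀ d x, Dist T d x → T.m x * T.w x = T.m u * T.w u → T.m u * T.w u ≤ 16 * B by
    have h := exists_reach hj₀ u hu
    exact this (Nat.find h) u ⟨Nat.find_spec h, fun l hl => Nat.find_min h hl⟩ rfl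
  intro d
  induction d using Nat.strong_induction_on with
  | _ d ih =>
    intro x hx hxe
    by_cases h4 : d ≤ 4
    · rw [← hxe]
      refine (reach_bound B hB d x hx.1).trans ?_
      refine mul_le_mul_of_nonneg_right ?_ hB0
      calc (2:ℤ) ^ d ≤ 2 ^ 4 := pow_le_pow_right₀ (by norm_num) h4
        _ = 16 := by norm_num
    · obtain ⟨D, rfl⟩ : ∃ D, d = D + 5 := ⟨d - 5, by omega⟩
      obtain ⟨l, hl, hle⟩ := far_has_larger hj₀ hx (fun y hy => hxe ▸ hmax y hy)
      exact ih (D + 4) (by omega) l hl (hle.trans hxe)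

end Groth.Agent.NumTypeLib
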