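import Groth.Agent.NumTypeLib.Basic
import Mathlib.LinearAlgebra.FiniteDimensional.Basic
import Mathlib.FieldTheory.Finiteness
import Mathlib.Algebra.Field.ZMod
import Mathlib.Algebra.Module.Torsion.Basic
import Mathlib.LinearAlgebra.Dimension.Constructions

/-!
# Graph bounds for numerical types, and the torsion bound for the cokernel
-/

namespace Groth.Agent.NumTypeLib

open Finset

variable {n : ℕ}

/-- adjacency indicator -/
def adj01 (A : Matrix (Fin n) (Fin n) ℤ) (i j : Fin n) : ℕ := if i ≠ j ∧ 0 < A i j then 1 else 0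

/-- twice the number of edges inside `C` -/
def dsum (A : Matrix (Fin n) (Fin n) ℤ) (C : Finset (Fin n)) : ℕ := ∑ i ∈ C, ∑ j ∈ C, adj01 A i j

lemma adj01_symm (A : Matrix (Fin n) (Fin n) ℤ) (hs : A.IsSymm) (i j : Fin n) :
    adj01 A i j = adj01 A j i := by
  simp only [adj01, hs.apply j i, ne_comm]

lemma dsum_insert (A : Matrix (Fin n) (Fin n) ℤ) (hs : A.IsSymm) {C : Finset (Fin n)} {k : Fin n}
    (hk : k ∉ C) : dsum A (insert k C) = dsum A C + 2 * ∑ j ∈ C, adj01 A k j := by
  simp only [dsum, sum_insert hk, sum_add_distrib]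
  have h0 : adj01 A k k = 0 := by simp [adj01]
  have h1 : ∑ i ∈ C, adj01 A i k = ∑ i ∈ C, adj01 A k i := sum_congr rfl fun i _ => adj01_symm A hs i k
  rw [h0, h1]
  ring

lemma dsum_univ (A : Matrix (Fin n) (Fin n) ℤ) (hs : A.IsSymm) :
    dsum A univ = 2 * (univ.filter fun p : Fin n × Fin n => p.1 < p.2 ∧ 0 < A p.1 p.2).card := by
  classical
  have hsplit : ∀ p : Fin n × Fin n, adj01 A p.1 p.2 =
      (if p.1 < p.2 ∧ 0 < A p.1 p.2 then 1 else 0) + (if p.2 < p.1 ∧ 0 < A p.2 p.1 then 1 else 0) := by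
    intro p
    simp only [adj01, hs.apply p.1 p.2]
    rcases lt_trichotomy p.1 p.2 with h | h | h
    · simp [h, h.ne, h.asymm]
    · simp [h]
    · simp [h, h.ne', h.asymm]
  unfold dsum
  rw [← Fintype.sum_prod_type' (fun i j => adj01 A i j)]
  simp only [hsplit, sum_add_distrib]
  have : ∑ p : Fin n × Fin n, (if p.2 < p.1 ∧ 0 < A p.2 p.1 then 1 else 0 : ℕ) =
      ∑ p : Fin n × Fin n, (if p.1 < p.2 ∧ 0 < A p.1 p.2 then 1 else 0 : ℕ) :=
    Equiv.sum_comp (Equiv.prodComm (Fin n) (Fin n))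
      (fun p => if p.1 < p.2 ∧ 0 < A p.1 p.2 then 1 else 0)
  rw [this, sum_boole, Nat.cast_id]
  omega

lemma edge_lower (hn : 0 < n) (A : Matrix (Fin n) (Fin n) ℤ) (hs : A.IsSymm)
    (hA : ∀ i j, i ≠ j → 0 ≤ A i j)
    (hconn : ∀ I : Finset (Fin n), I.Nonempty → I ≠ univ → ∃ i ∈ I, ∃ j ∉ I, A i j ≠ 0) :
    n ≤ (univ.filter fun p : Fin n × Fin n => p.1 < p.2 ∧ 0 < A p.1 p.2).card + 1 := by
  have key : ∀ k, k + 1 ≤ n → ∃ C : Finset (Fin n), C.card = k + 1 ∧ 2 * k ≤ dsum A C := by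
    intro k hk
    induction k with
    | zero => exact ⟨{⟨0, hn⟩}, by simp, by simp⟩
    | succ k ih =>
      obtain ⟨C, hC, hd⟩ := ih (by omega)
      obtain ⟨i, hi, j, hj, hij⟩ := hconn C (card_pos.1 (by omega)) (fun h => by
        rw [h, card_univ, Fintype.card_fin] at hC; omega)
      refine ⟨insert j C, by rw [card_insert_of_notMem hj, hC], ?_⟩
      have hne : i ≠ j := fun h => hj (h ▸ hi)
      have h1 : 1 ≤ ∑ l ∈ C, adj01 A j l := by
        refine le_trans ?_ (single_le_sum (f := fun l => adj01 A j l) (fun l _ => Nat.zero_le _) hi)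
        have : 0 < A j i := by
          rw [hs.apply i j]; exact lt_of_le_of_ne (hA i j hne) (Ne.symm hij)
        simp [adj01, hne.symm, this]
      rw [dsum_insert A hs hj]
      omega
  obtain ⟨C, hC, hd⟩ := key (n - 1) (by omega)
  have hCu : C = univ := eq_univ_of_card C (by rw [hC, Fintype.card_fin]; omega)
  rw [hCu, dsum_univ A hs] at hd
  omega

lemma exists_core (A : Matrix (Fin n) (Fin n) ℤ) (hs : A.IsSymm) :
    ∃ C : Finset (Fin n), (dsum A univ : ℤ) - 2 * n ≤ (dsum A C : ℤ) - 2 * C.card ∧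
      ∀ i ∈ C, 2 ≤ ∑ j ∈ C, adj01 A i j := by
  classical
  obtain ⟨C, hC, hmin⟩ := Finset.exists_min_image
    ((univ : Finset (Finset (Fin n))).filter fun C =>
      (dsum A univ : ℤ) - 2 * n ≤ (dsum A C : ℤ) - 2 * C.card) Finset.card ⟨univ, by simp⟩
  simp only [mem_filter, mem_univ, true_and] at hC hmin
  refine ⟨C, hC, fun i hi => ?_⟩
  by_contra hlt
  push Not at hlt
  have hC' : C = insert i (C.erase i) := (insert_erase hi).symm
  have hd := dsum_insert A hs (notMem_erase i C)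
  rw [← hC'] at hd
  have hsum : ∑ j ∈ C, adj01 A i j = ∑ j ∈ C.erase i, adj01 A i j := by
    rw [← add_sum_erase C _ hi]; simp [adj01]
  have hcard := card_erase_add_one hi
  have := hmin (C.erase i) (by omega)
  omega

lemma topGenus_le_genus (T : Models.NumericalType n) (hmin : T.IsMinimal) (hn : 1 < n) :
    T.topGenus ≤ T.genus := by
  obtain ⟨C, hC, hdeg⟩ := exists_core T.a T.symm
  have hterm : ∀ i, 0 ≤ term T i := fun i => term_nonneg T hn (hmin i)
  have h1 : ∑ i ∈ C, term T i ≤ 2 * (T.genus - 1) := by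
    rw [← two_genus T]
    exact sum_le_univ_sum_of_nonneg hterm
  have h2 : ∀ i ∈ C, (∑ j ∈ C, (adj01 T.a i j : ℤ) * T.a i j * T.m j) - 2 * (T.m i * T.w i) ≤ term T i := by
    intro i _
    have hrow := sum_row_erase T i
    have hle : ∑ j ∈ C, (adj01 T.a i j : ℤ) * T.a i j * T.m j ≤ ∑ j ∈ univ.erase i, T.a i j * T.m j := by
      rw [← sum_filter_add_sum_filter_not C (fun j => j = i)]
      have h0 : ∑ j ∈ C.filter (fun j => j = i), (adj01 T.a i j : ℤ) * T.a i j * T.m j = 0 :=
        sum_eq_zero fun j hj => by simp [(mem_filter.1 hj).2, adj01]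
      rw [h0, zero_add]
      refine le_trans (sum_le_sum fun j hj => ?_) (sum_le_sum_of_subset_of_nonneg
        (fun j hj => mem_erase.2 ⟨(mem_filter.1 hj).2, mem_univ j⟩)
        (fun j hj _ => mul_nonneg (T.offDiag_nonneg _ _ (ne_of_mem_erase hj).symm) (T.m_pos j).le))
      have hne := (mem_filter.1 hj).2
      have := mul_nonneg (T.offDiag_nonneg _ _ (Ne.symm hne)) (T.m_pos j).le
      unfold adj01
      split_ifs
      · simp
      · simpa using this
    have := mul_nonneg (mul_nonneg (T.m_pos i).le (T.w_pos i).le) (T.g_nonneg i)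
    unfold term
    nlinarith
  have h3 : ∑ i ∈ C, ((∑ j ∈ C, (adj01 T.a i j : ℤ)) - 2) ≤ ∑ i ∈ C, term T i := by
    refine le_trans ?_ (sum_le_sum h2)
    rw [sum_sub_distrib, sum_sub_distrib, sum_comm (f := fun i j => (adj01 T.a i j : ℤ) * T.a i j * T.m j),
      ← sum_sub_distrib, ← sum_sub_distrib]
    refine sum_le_sum fun i hi => ?_
    have hd : (2 : ℤ) ≤ ∑ j ∈ C, (adj01 T.a i j : ℤ) := by exact_mod_cast hdeg i hi
    have hmw : 1 ≤ T.m i * T.w i := one_le_mul_of_one_le_of_one_le (T.m_pos i) (T.w_pos i)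
    have hle : (∑ j ∈ C, (adj01 T.a i j : ℤ)) * (T.m i * T.w i) ≤
        ∑ j ∈ C, (adj01 T.a j i : ℤ) * T.a j i * T.m i := by
      rw [sum_mul]
      refine sum_le_sum fun j _ => ?_
      rw [adj01_symm T.a T.symm j i]
      unfold adj01
      split_ifs with h
      · simp only [Nat.cast_one, one_mul]
        have := w_le_of_pos T h.2
        rw [a_symm T i j] at this
        nlinarith [T.m_pos i]
      · simp
    nlinarith
  have h4 : ∑ i ∈ C, ((∑ j ∈ C, (adj01 T.a i j : ℤ)) - 2) = (dsum T.a C : ℤ) - 2 * C.card := by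
    simp [dsum, sum_sub_distrib, mul_comm]
  have h5 := dsum_univ T.a T.symm
  unfold Models.NumericalType.topGenus Models.NumericalType.edgeCount
  omega

lemma topGenus_nonneg (T : Models.NumericalType n) : 0 ≤ T.topGenus := by
  have := edge_lower T.pos T.a T.symm T.offDiag_nonneg T.connected
  unfold Models.NumericalType.topGenus Models.NumericalType.edgeCount
  omega

section Torsion

variable (A : Matrix (Fin n) (Fin n) ℤ) (F : Type*) [Field F]

/-- the index type of edges -/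
abbrev Edge := {p : Fin n × Fin n // p.1 < p.2 ∧ 0 < A p.1 p.2}

/-- boundary map of the graph -/
def bdry : (Edge A → F) →ₗ[F] (Fin n → F) where
  toFun f i := ∑ p, f p * ((if p.1.2 = i then 1 else 0) - (if p.1.1 = i then 1 else 0))
  map_add' f g := by ext i; simp [add_mul, sum_add_distrib]
  map_smul' c f := by ext i; simp [mul_sum, mul_assoc]

lemma finrank_ker_bdry (hn : 0 < n) (hs : A.IsSymm) (hA : ∀ i j, i ≠ j → 0 ≤ A i j)
    (hconn : ∀ I : Finset (Fin n), I.Nonempty → I ≠ univ → ∃ i ∈ I, ∃ j ∉ I, A i j ≠ 0) :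
    Module.finrank F (LinearMap.ker (bdry A F)) + n ≤
      (univ.filter fun p : Fin n × Fin n => p.1 < p.2 ∧ 0 < A p.1 p.2).card + 1 := by
  classical
  set R := LinearMap.range (bdry A F)
  let o : Fin n := ⟨0, hn⟩
  let S := R ⊔ Submodule.span F {(Pi.single o (1 : F) : Fin n → F)}
  have hedge : ∀ i j, i < j → 0 < A i j → Pi.single j (1:F) - Pi.single i 1 ∈ R := by
    intro i j hij hpos
    refine ⟨Pi.single ⟨(i, j), hij, hpos⟩ 1, funext fun k => ?_⟩
    simp [bdry, Pi.single_apply, eq_comm]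
  have hall : ∀ i, Pi.single i (1:F) ∈ S := by
    refine conn_ind A hconn _ o (Submodule.mem_sup_right (Submodule.subset_span rfl)) ?_
    intro i j hi hij
    rcases eq_or_ne i j with rfl | hne
    · exact hi
    have hpos : 0 < A i j := lt_of_le_of_ne (hA i j hne) (Ne.symm hij)
    have hd : Pi.single j (1:F) - Pi.single i 1 ∈ R := by
      rcases lt_or_gt_of_ne hne with h | h
      · exact hedge i j h hpos
      · rw [← neg_sub]; exact neg_mem (hedge j i h (by rw [hs.apply i j]; exact hpos))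
    have := add_mem (show Pi.single j (1:F) - Pi.single i 1 ∈ S from Submodule.mem_sup_left hd) hi
    simpa using this
  have htop : S = ⊤ := by
    refine eq_top_iff.2 fun f _ => ?_
    rw [pi_eq_sum_univ' f]
    exact sum_mem fun i _ => S.smul_mem _ (hall i)
  have h1 := Submodule.finrank_add_le_finrank_add_finrank R (Submodule.span F {(Pi.single o (1 : F) : Fin n → F)})
  have h2 : Module.finrank F (Submodule.span F {(Pi.single o (1 : F) : Fin n → F)}) ≤ 1 := by
    rw [finrank_span_singleton (by simp [Pi.single_eq_zero_iff])]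
  have h3 : Module.finrank F (⊤ : Submodule F (Fin n → F)) = n := by
    rw [finrank_top, Module.finrank_fin_fun]
  have h4 := LinearMap.finrank_range_add_finrank_ker (bdry A F)
  rw [Module.finrank_pi, Fintype.card_subtype] at h4
  change R ⊔ _ = ⊤ at htop
  rw [htop, h3] at h1
  change Module.finrank F R + _ = _ at h4
  omega

end Torsion

lemma torsion_bound (hn : 0 < n) (A : Matrix (Fin n) (Fin n) ℤ)
    (m : Fin n → ℤ) (hsymm : A.IsSymm) (hA : ∀ i j, i ≠ j → 0 ≤ A i j)
    (hAm : A.mulVec m = 0)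
    (hconn : ∀ I : Finset (Fin n), I.Nonempty → I ≠ univ → ∃ i ∈ I, ∃ j ∉ I, A i j ≠ 0)
    (ℓ : ℕ) (hℓ : ℓ.Prime) (hℓA : ∀ i j, A i j ≠ 0 → ¬ ((ℓ : ℤ) ∣ A i j))
    (hℓm : ∀ i, ¬ ((ℓ : ℤ) ∣ m i)) :
    Nat.card (Submodule.torsionBy ℤ ((Fin n → ℤ) ⧸ LinearMap.range (Matrix.mulVecLin A)) (ℓ : ℤ))
      ≤ ℓ ^ ((univ.filter fun p : Fin n × Fin n => p.1 < p.2 ∧ 0 < A p.1 p.2).card + 1 - n) := by
  classical
  haveI := Fact.mk hℓ
  let R := LinearMap.range (Matrix.mulVecLin A)
  have hrep : ∀ q : Submodule.torsionBy ℤ ((Fin n → ℤ) ⧸ R) (ℓ : ℤ),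
      ∃ xz : (Fin n → ℤ) × (Fin n → ℤ), Submodule.Quotient.mk xz.1 = (q : (Fin n → ℤ) ⧸ R) ∧
        A.mulVec xz.2 = (ℓ : ℤ) • xz.1 := by
    rintro ⟨q, hq⟩
    obtain ⟨x, rfl⟩ := Submodule.Quotient.mk_surjective _ q
    rw [Submodule.mem_torsionBy_iff, ← Submodule.Quotient.mk_smul, Submodule.Quotient.mk_eq_zero] at hq
    obtain ⟨z, hz⟩ := hq
    exact ⟨(x, z), rfl, hz⟩
  choose rep hrep1 hrep2 using hrep
  let flow : (Fin n → ℤ) → Edge A → (ZMod ℓ) := fun z p =>
    ((A p.1.1 p.1.2 * (z p.1.2 * m p.1.1 - z p.1.1 * m p.1.2) : ℤ) : (ZMod ℓ))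
  have hker : ∀ q, flow (rep q).2 ∈ LinearMap.ker (bdry A (ZMod ℓ)) := by
    intro q
    rw [LinearMap.mem_ker]
    ext i
    set z := (rep q).2 with hzdef
    let G : Fin n → Fin n → ℤ := fun k l => A k l * (z l * m k - z k * m l)
    have hG : ∀ k l, G l k = - G k l := fun k l => by simp only [G, hsymm.apply k l]; ring
    have hsum : (∑ p : Edge A, (G p.1.1 p.1.2 : (ZMod ℓ)) *
        ((if p.1.2 = i then 1 else 0) - (if p.1.1 = i then 1 else 0))) =
        ((∑ k, G k i : ℤ) : (ZMod ℓ)) := by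
      rw [← Finset.sum_subtype (univ.filter fun p : Fin n × Fin n => p.1 < p.2 ∧ 0 < A p.1 p.2)
        (by simp) (fun p => (G p.1 p.2 : (ZMod ℓ)) *
        ((if p.2 = i then 1 else 0) - (if p.1 = i then 1 else 0))), sum_filter]
      have hdrop : ∀ p : Fin n × Fin n,
          (if p.1 < p.2 ∧ 0 < A p.1 p.2 then (G p.1 p.2 : (ZMod ℓ)) *
            ((if p.2 = i then 1 else 0) - (if p.1 = i then 1 else 0)) else 0) =
          (if p.1 < p.2 then (G p.1 p.2 : (ZMod ℓ)) else 0) * (if p.2 = i then 1 else 0) -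
          (if p.1 < p.2 then (G p.1 p.2 : (ZMod ℓ)) else 0) * (if p.1 = i then 1 else 0) := by
        intro p
        by_cases h1 : p.1 < p.2
        · by_cases h2 : 0 < A p.1 p.2
          · simp [h1, h2, mul_sub]
          · have : A p.1 p.2 = 0 := le_antisymm (not_lt.1 h2) (hA _ _ h1.ne)
            simp [h1, h2, G, this]
        · simp [h1]
      simp only [hdrop, sum_sub_distrib, Fintype.sum_prod_type, mul_ite, mul_one, mul_zero,
        sum_ite_eq', mem_univ, if_true, sum_ite_irrel, sum_const_zero]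
      rw [← sum_sub_distrib, Int.cast_sum]
      refine sum_congr rfl fun k _ => ?_
      rcases lt_trichotomy k i with h | h | h
      · simp [h, h.asymm]
      · subst h; simp [G]
      · simp [h, h.asymm, hG i k]
    have hzero : ((∑ k, G k i : ℤ) : (ZMod ℓ)) = 0 := by
      have h1 : ∑ k, A i k * m k = 0 := congrFun hAm i
      have h2 : ∑ k, A i k * z k = (ℓ : ℤ) * (rep q).1 i := congrFun (hrep2 q) i
      have : ∑ k, G k i = z i * ∑ k, A i k * m k - m i * ∑ k, A i k * z k := by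
        rw [mul_sum, mul_sum, ← sum_sub_distrib]
        refine sum_congr rfl fun k _ => ?_
        simp only [G, hsymm.apply i k]; ring
      rw [this, h1, h2]
      simp
    exact hsum.trans hzero
  let f : Submodule.torsionBy ℤ ((Fin n → ℤ) ⧸ R) (ℓ : ℤ) → LinearMap.ker (bdry A (ZMod ℓ)) :=
    fun q => ⟨flow (rep q).2, hker q⟩
  have finj : Function.Injective f := by
    intro q q' h
    have h' : flow (rep q).2 = flow (rep q').2 := congrArg Subtype.val h
    set w := (rep q).2 - (rep q').2 with hw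
    have hm0 : ∀ i, (m i : (ZMod ℓ)) ≠ 0 := fun i => by
      rw [ne_eq, ZMod.intCast_zmod_eq_zero_iff_dvd]; exact hℓm i
    have hedge : ∀ i j, i < j → 0 < A i j → (w j : (ZMod ℓ)) / m j = (w i : (ZMod ℓ)) / m i := by
      intro i j hij hpos
      have h0 := congrFun h' ⟨(i, j), hij, hpos⟩
      have hA0 : (A i j : (ZMod ℓ)) ≠ 0 := by
        rw [ne_eq, ZMod.intCast_zmod_eq_zero_iff_dvd]; exact hℓA i j hpos.ne'
      simp only [flow, Int.cast_mul, Int.cast_sub] at h0
      have := mul_left_cancel₀ hA0 h0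
      rw [div_eq_div_iff (hm0 j) (hm0 i)]
      simp only [hw, Pi.sub_apply]
      push_cast
      linear_combination this
    let o : Fin n := ⟨0, hn⟩
    have hconst : ∀ i, (w i : (ZMod ℓ)) / m i = (w o : (ZMod ℓ)) / m o := by
      refine conn_ind A hconn _ o rfl fun i j hi hij => ?_
      rcases lt_trichotomy i j with h | h | h
      · exact (hedge i j h (lt_of_le_of_ne (hA i j h.ne) (Ne.symm hij))).trans hi
      · exact h ▸ hi
      · exact (hedge j i h (by rw [hsymm.apply i j]; exact lt_of_le_of_ne (hA i j h.ne') (Ne.symm hij))).symm.trans hi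
    obtain ⟨c, hc⟩ := ZMod.intCast_surjective ((w o : (ZMod ℓ)) / (m o : ZMod ℓ))
    have hu : ∀ i, (ℓ : ℤ) ∣ w i - c * m i := by
      intro i
      rw [← ZMod.intCast_zmod_eq_zero_iff_dvd]
      have := hconst i
      rw [div_eq_iff (hm0 i), ← hc] at this
      push_cast
      rw [this, sub_self]
    choose u hu using hu
    have hweq : w = c • m + (ℓ : ℤ) • u := funext fun i => by
      have := hu i
      simp only [Pi.add_apply, Pi.smul_apply, smul_eq_mul]; linarith
    have hAw : A.mulVec w = (ℓ : ℤ) • ((rep q).1 - (rep q').1) := by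
      rw [hw, Matrix.mulVec_sub, hrep2, hrep2, smul_sub]
    rw [hweq, Matrix.mulVec_add, Matrix.mulVec_smul, hAm, smul_zero, zero_add, Matrix.mulVec_smul] at hAw
    have hAu := smul_right_injective (Fin n → ℤ) (Int.natCast_ne_zero.2 hℓ.ne_zero) hAw
    apply Subtype.ext
    rw [← hrep1 q, ← hrep1 q', Submodule.Quotient.eq]
    exact ⟨u, hAu⟩
  calc Nat.card _ ≤ Nat.card (LinearMap.ker (bdry A (ZMod ℓ))) := Nat.card_le_card_of_injective f finj
    _ = ℓ ^ Module.finrank (ZMod ℓ) (LinearMap.ker (bdry A (ZMod ℓ))) := by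
      rw [Module.natCard_eq_pow_finrank (K := (ZMod ℓ)), Nat.card_zmod]
    _ ≤ _ := Nat.pow_le_pow_right hℓ.pos (by
      have := finrank_ker_bdry A (ZMod ℓ) hn hsymm hA hconn
      omega)

end Groth.Agent.NumTypeLib
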