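import Groth.Agent.NumTypeLib.Basic

/-!
# Contraction of a (-1)-index of a numerical type
-/

namespace Groth.Agent.NumTypeLib

open Finset

variable {n : ℕ}

lemma picHom {k : ℕ} (T : Models.NumericalType n) (T' : Models.NumericalType k)
    (L : (Fin n → ℤ) →ₗ[ℤ] (Fin k → ℤ))
    (hL : ∀ y, L y ∈ LinearMap.range (Matrix.mulVecLin T'.picMatrix) ↔
      y ∈ LinearMap.range (Matrix.mulVecLin T.picMatrix)) :
    ∃ f : T.Pic →+ T'.Pic, Function.Injective f ∧
      ∀ y, f (Submodule.Quotient.mk y) = Submodule.Quotient.mk (L y) := by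
  refine ⟨(Submodule.mapQ (LinearMap.range (Matrix.mulVecLin T.picMatrix)) (LinearMap.range (Matrix.mulVecLin T'.picMatrix)) L (fun y hy => (hL y).2 hy)).toAddMonoidHom, ?_, fun y => rfl⟩
  rw [injective_iff_map_eq_zero]
  intro q hq
  obtain ⟨y, rfl⟩ := Submodule.Quotient.mk_surjective _ q
  rw [Submodule.Quotient.mk_eq_zero, ← hL]
  exact (Submodule.Quotient.mk_eq_zero _).1 hq

lemma pic_perm (T : Models.NumericalType n) (σ : Equiv.Perm (Fin n)) :
    ∃ f : T.Pic →+ (perm T σ).Pic, Function.Injective f := by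
  obtain ⟨f, hf, -⟩ := picHom T (perm T σ) (LinearMap.funLeft ℤ ℤ σ) (fun y => by
    rw [mem_range_pic, mem_range_pic]
    constructor
    · rintro ⟨x, hx⟩
      refine ⟨x ∘ σ.symm, fun i => ?_⟩
      have := hx (σ.symm i)
      simp only [perm, LinearMap.funLeft_apply, Equiv.apply_symm_apply] at this
      rw [this, ← Equiv.sum_comp σ (fun j => T.a i j * (x ∘ σ.symm) j)]
      simp
    · rintro ⟨x, hx⟩
      refine ⟨x ∘ σ, fun i => ?_⟩
      simp only [perm, LinearMap.funLeft_apply, Function.comp_apply, hx (σ i)]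
      exact (Equiv.sum_comp σ (fun j => T.a (σ i) j * x j)).symm)
  exact ⟨f, hf⟩

variable (T : Models.NumericalType (n + 1))

/-- the coefficient `a i l / w l` -/
def cb (i : Fin n) : ℤ := T.a i.castSucc (Fin.last n) / T.w (Fin.last n)

lemma cb_spec (i : Fin n) : T.a i.castSucc (Fin.last n) = T.w (Fin.last n) * cb T i := by
  rw [cb, Int.mul_ediv_cancel']
  rw [a_symm]; exact T.w_dvd _ _

lemma cb_nonneg (i : Fin n) : 0 ≤ cb T i :=
  Int.ediv_nonneg (T.offDiag_nonneg _ _ (Fin.castSucc_lt_last i).ne) (T.w_pos _).le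

/-- the contracted weights -/
def cw (i : Fin n) : ℤ :=
  if 2 ∣ T.a i.castSucc (Fin.last n) / T.w (Fin.last n) ∧
      ¬ 2 ∣ T.a i.castSucc (Fin.last n) / T.w i.castSucc
  then T.w i.castSucc / 2 else T.w i.castSucc

lemma cw_spec (i : Fin n) :
    0 < cw T i ∧ cw T i ∣ T.w i.castSucc ∧
      2 * cw T i ∣ T.a i.castSucc (Fin.last n) * (cb T i - 1) ∧
      ((cw T i = T.w i.castSucc) ∨
        (T.w i.castSucc = 2 * cw T i ∧ 2 ∣ cb T i ∧ T.a i.castSucc (Fin.last n) ≠ 0)) := by
  set W := T.w (Fin.last n) with hW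
  set v := T.w i.castSucc with hv
  set a := T.a i.castSucc (Fin.last n) with ha
  set b := cb T i with hb
  obtain ⟨c, hc⟩ := T.w_dvd i.castSucc (Fin.last n)
  have hvpos := T.w_pos i.castSucc
  have hab := cb_spec T i
  rw [← ha, ← hb, ← hW] at hab
  rw [← ha, ← hv] at hc
  have hdiv : a / v = c := by rw [hc, Int.mul_ediv_cancel_left _ hvpos.ne']
  unfold cw
  rw [← ha, ← hW, ← hv, show a / W = b from rfl, hdiv]
  split_ifs with h
  · obtain ⟨hbe, hco⟩ := h
    have h2 : (2 : ℤ) ∣ v := by
      have : (2 : ℤ) ∣ v * c := by rw [← hc, hab]; exact hbe.mul_left W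
      rw [Int.dvd_iff_emod_eq_zero, Int.mul_emod, (by omega : c % 2 = 1)] at this
      omega
    obtain ⟨v', hv'⟩ := h2
    rw [hv', Int.mul_ediv_cancel_left _ (by norm_num : (2:ℤ) ≠ 0)]
    refine ⟨by omega, Dvd.intro_left _ rfl, ?_, Or.inr ⟨rfl, hbe, ?_⟩⟩
    · exact ⟨c * (b - 1), by rw [hc, hv']; ring⟩
    · intro h0
      have : c = 0 := by
        rw [h0] at hc; exact (mul_eq_zero.1 hc.symm).resolve_left hvpos.ne'
      exact hco (this ▸ dvd_zero _)
  · refine ⟨hvpos, dvd_rfl, ?_, Or.inl rfl⟩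
    have h2 : (2 : ℤ) ∣ c * (b - 1) := by
      by_cases hbe : (2 : ℤ) ∣ b
      · exact (not_not.1 fun hn => h ⟨hbe, hn⟩).mul_right _
      · exact Dvd.dvd.mul_left (by omega) _
    obtain ⟨k, hk⟩ := h2
    exact ⟨k, by rw [hc, mul_assoc, hk]; ring⟩

/-- the correction term in the contracted genus -/
def cK (i : Fin n) : ℤ :=
  (T.a i.castSucc (Fin.last n) ^ 2 - T.w (Fin.last n) * T.a i.castSucc (Fin.last n)) /
    (2 * cw T i * T.w (Fin.last n))

lemma cK_spec (i : Fin n) :
    2 * cw T i * cK T i = T.a i.castSucc (Fin.last n) * (cb T i - 1) := by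
  obtain ⟨hpos, -, ⟨k, hk⟩, -⟩ := cw_spec T i
  have hW := T.w_pos (Fin.last n)
  have : T.a i.castSucc (Fin.last n) ^ 2 - T.w (Fin.last n) * T.a i.castSucc (Fin.last n) =
      2 * cw T i * T.w (Fin.last n) * k := by
    rw [mul_assoc (2 * cw T i), mul_comm (T.w (Fin.last n)) k, ← mul_assoc, ← hk]
    rw [cb_spec T i]; ring
  rw [cK, this, Int.mul_ediv_cancel_left _ (by positivity), hk]

lemma cg_nonneg (i : Fin n) :
    0 ≤ T.w i.castSucc / cw T i * (T.g i.castSucc - 1) + 1 + cK T i := by
  obtain ⟨hpos, -, -, hcase⟩ := cw_spec T i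
  have hK := cK_spec T i
  have ha := T.offDiag_nonneg _ _ (Fin.castSucc_lt_last i).ne
  have hb := cb_nonneg T i
  have hab := cb_spec T i
  have hg := T.g_nonneg i.castSucc
  have hW := T.w_pos (Fin.last n)
  have hK0 : 0 ≤ cK T i := by
    rcases hb.eq_or_lt' with h0 | h1
    · rw [hab, h0] at hK
      nlinarith
    · have : 0 ≤ T.a i.castSucc (Fin.last n) * (cb T i - 1) := mul_nonneg ha (by omega)
      nlinarith
  rcases hcase with h | ⟨h, h2, hne⟩
  · rw [h, Int.ediv_self (by omega)]; omega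
  · rw [h, Int.mul_ediv_cancel _ hpos.ne']
    have hb2 : 2 ≤ cb T i := by
      have : cb T i ≠ 0 := fun h0 => hne (by rw [hab, h0, mul_zero])
      omega
    have h1 : 1 ≤ cK T i := by
      have hv := w_le_of_pos T (lt_of_le_of_ne ha (Ne.symm hne))
      nlinarith
    omega

variable (h : T.IsMinusOne (Fin.last n))
include h

lemma diag_last : T.a (Fin.last n) (Fin.last n) = -T.w (Fin.last n) := h.2

lemma ca_eq (i j : Fin n) :
    T.a i.castSucc j.castSucc - T.a i.castSucc (Fin.last n) * T.a j.castSucc (Fin.last n) /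
        T.a (Fin.last n) (Fin.last n) =
      T.a i.castSucc j.castSucc + T.a i.castSucc (Fin.last n) * cb T j := by
  rw [diag_last T h, cb_spec T j, Int.ediv_neg, ← mul_assoc,
    mul_comm (T.a i.castSucc (Fin.last n)) (T.w _), mul_assoc,
    Int.mul_ediv_cancel_left _ (T.w_pos _).ne', sub_neg_eq_add]

lemma sum_cb_m : ∑ j : Fin n, T.a (Fin.last n) j.castSucc * T.m j.castSucc =
    T.w (Fin.last n) * T.m (Fin.last n) := by
  have := sum_row T (Fin.last n)
  rw [Fin.sum_univ_castSucc, diag_last T h] at this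
  linarith

lemma contr_pos : 0 < n := by
  rcases Nat.eq_zero_or_pos n with rfl | hn
  · have := sum_cb_m T h
    simp at this
    rcases this with h' | h'
    · exact absurd h' (T.w_pos _).ne'
    · exact absurd h' (T.m_pos _).ne'
  · exact hn

/-- the contraction along the last index -/
def contr : Models.NumericalType n where
  m i := T.m i.castSucc
  a := fun i j => T.a i.castSucc j.castSucc + T.a i.castSucc (Fin.last n) * cb T j
  w := cw T
  g i := T.w i.castSucc / cw T i * (T.g i.castSucc - 1) + 1 + cK T i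
  pos := contr_pos T h
  m_pos i := T.m_pos _
  w_pos i := (cw_spec T i).1
  g_nonneg := cg_nonneg T
  symm := Matrix.IsSymm.ext fun i j => by
    rw [a_symm T j.castSucc, cb_spec T j, cb_spec T i]; ring
  offDiag_nonneg i j hij := add_nonneg (T.offDiag_nonneg _ _ (fun e => hij (Fin.castSucc_injective n e)))
    (mul_nonneg (T.offDiag_nonneg _ _ (Fin.castSucc_lt_last i).ne) (cb_nonneg T j))
  connected I hI hIu := by
    classical
    by_contra hc
    push Not at hc
    have hzero : ∀ i ∈ I, ∀ j ∉ I, T.a i.castSucc j.castSucc = 0 ∧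
        T.a i.castSucc (Fin.last n) * cb T j = 0 := by
      intro i hi j hj
      have h0 := hc i hi j hj
      have h1 : 0 ≤ T.a i.castSucc j.castSucc :=
        T.offDiag_nonneg _ _ (fun e => hj (Fin.castSucc_injective n e ▸ hi))
      have h2 := mul_nonneg (T.offDiag_nonneg _ _ (Fin.castSucc_lt_last i).ne) (cb_nonneg T j)
      constructor <;> linarith
    by_cases hb : ∀ i ∈ I, T.a i.castSucc (Fin.last n) = 0
    · obtain ⟨k, hk, l, hl, hkl⟩ := T.connected (I.map Fin.castSuccEmb) hI.map (fun e => by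
        have : Fin.last n ∈ I.map Fin.castSuccEmb := by rw [e]; exact mem_univ _
        simp only [mem_map, Fin.coe_castSuccEmb] at this
        obtain ⟨i, -, hi⟩ := this
        exact (Fin.castSucc_lt_last i).ne hi)
      simp only [mem_map, Fin.coe_castSuccEmb] at hk hl
      obtain ⟨i, hi, rfl⟩ := hk
      rcases Fin.eq_castSucc_or_eq_last l with ⟨j, rfl⟩ | rfl
      · exact hkl (hzero i hi j (fun hj => hl ⟨j, hj, rfl⟩)).1
      · exact hkl (hb i hi)
    · push Not at hb
      obtain ⟨i₀, hi₀, hne⟩ := hb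
      have hb' : ∀ j ∉ I, cb T j = 0 := fun j hj => (mul_eq_zero.1 (hzero i₀ hi₀ j hj).2).resolve_left hne
      obtain ⟨k, hk, l, hl, hkl⟩ := T.connected ((univ \ I).map Fin.castSuccEmb)
        ((sdiff_nonempty.2 fun hsub => hIu (univ_subset_iff.1 hsub)).map) (fun e => by
        have : Fin.last n ∈ (univ \ I).map Fin.castSuccEmb := by rw [e]; exact mem_univ _
        simp only [mem_map, Fin.coe_castSuccEmb] at this
        obtain ⟨i, -, hi⟩ := this
        exact (Fin.castSucc_lt_last i).ne hi)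
      simp only [mem_map, Fin.coe_castSuccEmb, mem_sdiff, mem_univ, true_and] at hk hl
      obtain ⟨i, hi, rfl⟩ := hk
      rcases Fin.eq_castSucc_or_eq_last l with ⟨j, rfl⟩ | rfl
      · have hj : j ∈ I := not_not.1 fun hj => hl ⟨j, hj, rfl⟩
        rw [a_symm] at hkl
        exact hkl (hzero j hj i hi).1
      · exact hkl (by rw [cb_spec, hb' i hi, mul_zero])
  mulVec_m := funext fun i => by
    simp only [Matrix.mulVec, dotProduct, Pi.zero_apply, add_mul, sum_add_distrib]
    have h1 : ∑ j : Fin n, T.a i.castSucc (Fin.last n) * cb T j * T.m j.castSucc =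
        T.a i.castSucc (Fin.last n) * T.m (Fin.last n) := by
      have h2 := sum_cb_m T h
      simp only [a_symm T (Fin.last n), cb_spec, mul_assoc, ← mul_sum] at h2
      have h3 := mul_left_cancel₀ (T.w_pos _).ne' h2
      simp only [mul_assoc, ← mul_sum, h3]
    have := sum_row T i.castSucc
    rw [Fin.sum_univ_castSucc] at this
    linarith
  w_dvd i j := dvd_add ((cw_spec T i).2.1.trans (T.w_dvd _ _))
    (((cw_spec T i).2.1.trans (T.w_dvd _ _)).mul_right _)

lemma contr_isContraction : T.IsContraction (contr T h) :=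
  ⟨fun _ => rfl, fun i j => (ca_eq T h i j).symm, fun _ => rfl, fun _ => rfl⟩

variable (T' : Models.NumericalType n) (hT' : T.IsContraction T')
include hT'

lemma contr_fields : (∀ i, T'.m i = T.m i.castSucc) ∧
    (∀ i j, T'.a i j = T.a i.castSucc j.castSucc + T.a i.castSucc (Fin.last n) * cb T j) ∧
    (∀ i, T'.w i = cw T i) ∧
    (∀ i, T'.g i = T.w i.castSucc / cw T i * (T.g i.castSucc - 1) + 1 + cK T i) := by
  obtain ⟨h1, h2, h3, h4⟩ := hT'
  exact ⟨h1, fun i j => (h2 i j).trans (ca_eq T h i j), h3, fun i => by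
    rw [h4 i, show T'.w i = cw T i from h3 i]; rfl⟩

lemma contr_genus : T'.genus = T.genus := by
  obtain ⟨hm, ha, hw, hg⟩ := contr_fields T h T' hT'
  have h1 := two_genus T'
  have h2 := two_genus T
  rw [Fin.sum_univ_castSucc] at h2
  have hterm : ∀ i : Fin n, term T' i = term T i.castSucc -
      T.m i.castSucc * T.a i.castSucc (Fin.last n) := by
    intro i
    obtain ⟨-, hd, -, -⟩ := cw_spec T i
    have h3 := Int.ediv_mul_cancel hd
    have h4 := cK_spec T i
    unfold term
    rw [hm, hw, hg, ha]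
    linear_combination T.m i.castSucc * (2 * (T.g i.castSucc - 1)) * h3 + T.m i.castSucc * h4
  have hl : term T (Fin.last n) = -(T.w (Fin.last n) * T.m (Fin.last n)) := by
    unfold term; rw [h.1, h.2]; ring
  have hs := sum_cb_m T h
  have : ∑ i : Fin n, T.m i.castSucc * T.a i.castSucc (Fin.last n) =
      T.w (Fin.last n) * T.m (Fin.last n) := by
    rw [← hs]; exact sum_congr rfl fun i _ => by rw [a_symm T (Fin.last n)]; ring
  simp only [hterm, sum_sub_distrib, this] at h1
  linarith

lemma contr_pic : ∃ f : T.Pic →+ T'.Pic, Function.Injective f ∧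
    ∀ y : T'.Pic, ∃ x : T.Pic, 2 • y = f x := by
  obtain ⟨-, ha, hw, -⟩ := contr_fields T h T' hT'
  have hr : ∀ i, cw T i * (T.w i.castSucc / cw T i) = T.w i.castSucc :=
    fun i => Int.mul_ediv_cancel' (cw_spec T i).2.1
  have hq : ∀ i, cw T i * (T.a i.castSucc (Fin.last n) / cw T i) = T.a i.castSucc (Fin.last n) :=
    fun i => Int.mul_ediv_cancel' ((cw_spec T i).2.1.trans (T.w_dvd _ _))
  let L : (Fin (n + 1) → ℤ) →ₗ[ℤ] (Fin n → ℤ) :=
    { toFun := fun y i => T.w i.castSucc / cw T i * y i.castSucc +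
        T.a i.castSucc (Fin.last n) / cw T i * y (Fin.last n)
      map_add' := fun y z => by ext i; simp only [Pi.add_apply]; ring
      map_smul' := fun c y => by ext i; simp only [Pi.smul_apply, smul_eq_mul, RingHom.id_apply]; ring }
  obtain ⟨f, hf, hfa⟩ := picHom T T' L (fun y => by
    rw [mem_range_pic, mem_range_pic]
    have hL : ∀ i, T'.w i * L y i =
        T.w i.castSucc * y i.castSucc + T.a i.castSucc (Fin.last n) * y (Fin.last n) := fun i => by
      simp only [L, LinearMap.coe_mk, AddHom.coe_mk, hw, mul_add, ← mul_assoc, hr, hq]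
    have hsum : ∀ (x : Fin n → ℤ) (i : Fin n), ∑ j, T'.a i j * x j =
        (∑ j : Fin n, T.a i.castSucc j.castSucc * x j) +
          T.a i.castSucc (Fin.last n) * ∑ j, cb T j * x j := fun x i => by
      simp only [ha, add_mul, sum_add_distrib, mul_sum, mul_assoc]
    have hlast : ∀ x : Fin n → ℤ, ∑ j : Fin n, T.a (Fin.last n) j.castSucc * x j =
        T.w (Fin.last n) * ∑ j, cb T j * x j := fun x => by
      rw [mul_sum]; exact sum_congr rfl fun j _ => by rw [a_symm, cb_spec]; ring
    simp only [hL, hsum]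
    constructor
    · rintro ⟨x, hx⟩
      refine ⟨Fin.snoc x ((∑ j, cb T j * x j) - y (Fin.last n)), fun i => ?_⟩
      rcases Fin.eq_castSucc_or_eq_last i with ⟨i, rfl⟩ | rfl
      · simp only [Fin.sum_univ_castSucc, Fin.snoc_castSucc, Fin.snoc_last]
        linarith [hx i]
      · simp only [Fin.sum_univ_castSucc, Fin.snoc_castSucc, Fin.snoc_last, hlast, diag_last T h]
        ring
    · rintro ⟨x, hx⟩
      refine ⟨fun j => x j.castSucc, fun i => ?_⟩
      have h1 := hx i.castSucc
      have h2 := hx (Fin.last n)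
      rw [Fin.sum_univ_castSucc] at h1 h2
      rw [hlast (fun j => x j.castSucc), diag_last T h] at h2
      have h3 : y (Fin.last n) = (∑ j, cb T j * x j.castSucc) - x (Fin.last n) :=
        mul_left_cancel₀ (T.w_pos (Fin.last n)).ne' (by linarith)
      rw [h1, h3]; ring)
  refine ⟨f, hf, fun q => ?_⟩
  obtain ⟨y, rfl⟩ := Submodule.Quotient.mk_surjective _ q
  refine ⟨Submodule.Quotient.mk (Fin.snoc (fun i => if cw T i = T.w i.castSucc then 2 * y i else y i) 0), ?_⟩
  rw [hfa, ← Submodule.Quotient.mk_smul]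
  congr 1
  ext i
  simp only [L, LinearMap.coe_mk, AddHom.coe_mk, Fin.snoc_castSucc, Fin.snoc_last, mul_zero, add_zero,
    Pi.smul_apply, nsmul_eq_mul, Nat.cast_ofNat]
  obtain ⟨hpos, -, -, hc | ⟨hc, -, -⟩⟩ := cw_spec T i
  · rw [if_pos hc, hc, Int.ediv_self (T.w_pos _).ne', one_mul]
  · rw [if_neg (by omega), hc, Int.mul_ediv_cancel _ hpos.ne']

omit h hT' in
/-- any (-1)-index can be moved to the last position and contracted -/
lemma exists_contraction (T : Models.NumericalType (n + 1)) (hT : ¬T.IsMinimal) :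
    ∃ T' : Models.NumericalType n, T'.genus = T.genus ∧ ∃ f : T.Pic →+ T'.Pic, Function.Injective f := by
  simp only [Models.NumericalType.IsMinimal, not_forall, not_not] at hT
  obtain ⟨i, hi⟩ := hT
  let σ := Equiv.swap i (Fin.last n)
  have h1 : (perm T σ).IsMinusOne (Fin.last n) := by
    simpa [perm, Models.NumericalType.IsMinusOne, σ] using hi
  have h2 := contr_isContraction (perm T σ) h1
  refine ⟨contr (perm T σ) h1, (contr_genus _ h1 _ h2).trans (perm_genus T σ), ?_⟩
  obtain ⟨f, hf⟩ := pic_perm T σ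
  obtain ⟨g, hg, -⟩ := contr_pic _ h1 _ h2
  exact ⟨g.comp f, hg.comp hf⟩

end Groth.Agent.NumTypeLib
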