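import Groth.Agent.NumTypeLib.Basic
import Groth.Agent.NumTypeLib.Contraction
import Mathlib.LinearAlgebra.Dimension.Localization
import Mathlib.LinearAlgebra.FreeModule.PID

/-!
# The Picard group of a numerical type
-/

namespace Groth.Agent.NumTypeLib

open Finset

variable {n : ℕ}

lemma picMatrix_ker_le (T : Models.NumericalType n) {x : Fin n → ℤ}
    (hx : Matrix.mulVecLin T.picMatrix x = 0) : ∀ i, ∑ j, T.a i j * x j = 0 := by
  intro i
  have := congrFun hx i
  simp only [Matrix.mulVecLin_apply, Matrix.mulVec, dotProduct, Pi.zero_apply] at this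
  have h2 : T.w i * ∑ j, T.picMatrix i j * x j = 0 := by rw [this, mul_zero]
  simpa only [mul_sum, ← mul_assoc, mul_picMatrix] using h2

lemma finrank_pic (T : Models.NumericalType n) : Module.finrank ℤ T.Pic = 1 := by
  set L := Matrix.mulVecLin T.picMatrix with hL
  have h1 := Submodule.finrank_quotient_add_finrank (LinearMap.range L)
  have h2 := Submodule.finrank_quotient_add_finrank (LinearMap.ker L)
  rw [L.quotKerEquivRange.finrank_eq] at h2
  have h3 : Module.finrank ℤ (LinearMap.ker L) = 1 := by
    let o : Fin n := ⟨0, T.pos⟩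
    have hle : Module.finrank ℤ (LinearMap.ker L) ≤ 1 := by
      have hi : Function.Injective ((LinearMap.proj o).comp (LinearMap.ker L).subtype :
          LinearMap.ker L →ₗ[ℤ] ℤ) := by
        rw [injective_iff_map_eq_zero]
        intro x hx
        ext i
        have := kernel_prop T (picMatrix_ker_le T x.2) i o
        simp only [LinearMap.coe_comp, Function.comp_apply, Submodule.coe_subtype,
          LinearMap.coe_proj, Function.eval] at hx
        rw [hx, zero_mul] at this
        simpa [(T.m_pos o).ne'] using this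
      simpa using LinearMap.finrank_le_finrank_of_injective hi
    have hm : T.m ∈ LinearMap.ker L := by
      rw [LinearMap.mem_ker]
      ext i
      refine mul_left_cancel₀ (T.w_pos i).ne' ?_
      simp only [hL, Matrix.mulVecLin_apply, Matrix.mulVec, dotProduct, mul_sum, ← mul_assoc,
        mul_picMatrix, sum_row, Pi.zero_apply, mul_zero]
    have hne : Module.finrank ℤ (LinearMap.ker L) ≠ 0 := by
      intro h0
      have := Module.finrank_zero_iff.1 h0
      have h4 := congrArg Subtype.val (this.elim ⟨T.m, hm⟩ 0)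
      exact (T.m_pos o).ne' (congrFun h4 o)
    omega
  rw [Module.finrank_fin_fun] at h1 h2
  change Module.finrank ℤ ((Fin n → ℤ) ⧸ LinearMap.range L) = 1
  omega

lemma pic_one (T : Models.NumericalType 1) : ∃ f : T.Pic →+ ℤ, Function.Injective f := by
  have h0 : T.picMatrix = 0 := by
    ext i j
    rw [Fin.eq_zero i, Fin.eq_zero j]
    have := sum_row T 0
    simp [(T.m_pos 0).ne'] at this
    simp [Models.NumericalType.picMatrix, this]
  let e := (Submodule.quotEquivOfEqBot (LinearMap.range (Matrix.mulVecLin T.picMatrix))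
    (by simp [h0])).trans (LinearEquiv.funUnique (Fin 1) ℤ ℤ)
  exact ⟨e.toAddEquiv.toAddMonoidHom, e.injective⟩

lemma pic_inj_int : ∀ {n : ℕ} (T : Models.NumericalType n), T.genus ≤ 0 →
    ∃ f : T.Pic →+ ℤ, Function.Injective f := by
  intro n
  induction n with
  | zero => intro T; exact absurd T.pos (lt_irrefl 0)
  | succ k ih =>
    intro T hg
    rcases Nat.eq_zero_or_pos k with rfl | hk
    · exact pic_one T
    · obtain ⟨T', hg', f, hf⟩ := exists_contraction T (fun hmin => by
        have := one_le_genus T hmin (by omega); omega)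
      obtain ⟨g, hg2⟩ := ih T' (hg'.symm ▸ hg)
      exact ⟨g.comp f, hg2.comp hf⟩

lemma pic_equiv_int (T : Models.NumericalType n) (hg : T.genus ≤ 0) : Nonempty (T.Pic ≃+ ℤ) := by
  obtain ⟨f, hf⟩ := pic_inj_int T hg
  haveI : Module.IsTorsionFree ℤ T.Pic :=
    hf.moduleIsTorsionFree f.toIntLinearMap (fun c x => map_zsmul f c x)
  exact ⟨(LinearEquiv.ofFinrankEq T.Pic ℤ (by rw [finrank_pic, Module.finrank_self])).toAddEquiv⟩

lemma pic_to_cokerA (T : Models.NumericalType n) :
    ∃ f : T.Pic →+ T.CokerA, Function.Injective f ∧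
      ∀ x : Fin n → ℤ, f (Submodule.Quotient.mk x) = Submodule.Quotient.mk (fun i => T.w i * x i) := by
  let L : (Fin n → ℤ) →ₗ[ℤ] (Fin n → ℤ) :=
    { toFun := fun x i => T.w i * x i
      map_add' := fun x y => by ext i; simp [mul_add]
      map_smul' := fun c x => by ext i; simp [mul_left_comm] }
  have hiff : ∀ y, L y ∈ LinearMap.range (Matrix.mulVecLin T.a) ↔
      y ∈ LinearMap.range (Matrix.mulVecLin T.picMatrix) := fun y => by
    rw [mem_range_pic]
    constructor
    · rintro ⟨x, hx⟩; exact ⟨x, fun i => (congrFun hx i).symm⟩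
    · rintro ⟨x, hx⟩; exact ⟨x, funext fun i => (hx i).symm⟩
  refine ⟨(Submodule.mapQ (LinearMap.range (Matrix.mulVecLin T.picMatrix))
    (LinearMap.range (Matrix.mulVecLin T.a)) L (fun y hy => (hiff y).2 hy)).toAddMonoidHom, ?_,
    fun x => rfl⟩
  rw [injective_iff_map_eq_zero]
  intro q hq
  obtain ⟨y, rfl⟩ := Submodule.Quotient.mk_surjective _ q
  rw [Submodule.Quotient.mk_eq_zero, ← hiff]
  exact (Submodule.Quotient.mk_eq_zero _).1 hq

end Groth.Agent.NumTypeLib
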