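import Groth.Agent.NumTypeLib.Bound
import Groth.Agent.NumTypeLib.Graph
import Groth.Agent.NumTypeLib.Pic
import Mathlib.GroupTheory.FiniteAbelian.Basic

/-!
# `m i * |a i j| ≤ 768 g` and the bound on the torsion of the Picard group
-/

namespace Groth.Agent.NumTypeLib

open Finset

variable {n : ℕ}

theorem bound768 (T : Models.NumericalType n) (hmin : T.IsMinimal) (hg : 2 ≤ T.genus) (i j : Fin n) :
    T.m i * |T.a i j| ≤ 768 * T.genus := by
  classical
  rcases (by have := T.pos; omega : n = 1 ∨ 1 < n) with rfl | hn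
  · rw [Fin.eq_zero i, Fin.eq_zero j]
    have := sum_row T 0
    simp [(T.m_pos 0).ne'] at this
    rw [this, abs_zero, mul_zero]
    omega
  have hnn : ∀ k, 0 ≤ term T k := fun k => term_nonneg T hn (hmin k)
  have htot := two_genus T
  set B : ℤ := 6 * T.genus with hBdef
  have hB : ∀ k, ¬T.IsMinusTwo k → T.m k * |T.a k k| ≤ B := by
    intro k hk
    have h1 : term T k ≤ 2 * (T.genus - 1) := by
      rw [← htot]; exact Finset.single_le_sum (fun i _ => hnn i) (Finset.mem_univ k)
    have hm := T.m_pos k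
    have hw := T.w_pos k
    have ha := diag_neg T hn k
    rw [abs_of_neg ha]
    unfold term at h1
    rcases (T.g_nonneg k).eq_or_lt' with h | h
    · obtain ⟨c, hc⟩ := T.w_dvd k k
      have h2 : c ≤ -3 := by
        have e1 : c ≠ -1 := fun e => hmin k ⟨h, by rw [hc, e]; ring⟩
        have e2 : c ≠ -2 := fun e => hk ⟨h, by rw [hc, e]; ring⟩
        have e3 : c < 0 := by
          by_contra hcc
          exact absurd ha (not_lt.2 (hc ▸ mul_nonneg hw.le (not_lt.1 hcc)))
        omega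
      rw [h, hc] at h1
      rw [hc]
      nlinarith [mul_nonneg (mul_nonneg hm.le hw.le) (by omega : (0:ℤ) ≤ -c - 3)]
    · nlinarith [mul_nonneg (mul_nonneg hm.le hw.le) (by omega : (0:ℤ) ≤ T.g k - 1)]
  obtain ⟨j₀, hj₀⟩ : ∃ k, ¬T.IsMinusTwo k := by
    by_contra hc
    push Not at hc
    have : ∑ k, term T k = 0 := sum_eq_zero fun k _ => by
      unfold term; rw [(hc k).1, (hc k).2]; ring
    omega
  have diag : ∀ k, T.m k * |T.a k k| ≤ 768 * T.genus := by
    intro k
    by_cases hk : T.IsMinusTwo k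
    · have := minusTwo_bound B (by omega) hB hj₀ k hk
      rw [abs_of_nonpos (diag_nonpos T k), hk.2]
      linarith
    · linarith [hB k hk]
  rcases eq_or_ne i j with rfl | hne
  · exact diag i
  · rcases (T.offDiag_nonneg i j hne).eq_or_lt' with h | h
    · rw [h, abs_zero, mul_zero]; omega
    · rw [abs_of_pos h]; exact (neighbour_bound T h).1.trans (diag j)

lemma card_torsion_le {A B : Type*} [AddCommGroup A] [AddCommGroup B] (ℓ : ℕ) (f : A →+ B)
    (hf : Function.Injective f) [Finite (Submodule.torsionBy ℤ B (ℓ : ℤ))] :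
    Nat.card (Submodule.torsionBy ℤ A (ℓ : ℤ)) ≤ Nat.card (Submodule.torsionBy ℤ B (ℓ : ℤ)) :=
  Nat.card_le_card_of_injective
    (fun x => ⟨f x.1, by
      rw [Submodule.mem_torsionBy_iff, ← map_zsmul, (Submodule.mem_torsionBy_iff _ _).1 x.2, map_zero]⟩)
    (fun x y h => Subtype.ext (hf (congrArg Subtype.val h)))

lemma finite_torsion (M : Type*) [AddCommGroup M] [Module.Finite ℤ M] (ℓ : ℕ) (hℓ : 0 < ℓ) :
    Finite (Submodule.torsionBy ℤ M (ℓ : ℤ)) := by
  haveI : Module.Finite ℤ (Submodule.torsionBy ℤ M (ℓ : ℤ)) := Module.Finite.of_fg (IsNoetherian.noetherian _)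
  exact Module.finite_of_fg_torsion _ (fun x => ⟨⟨(ℓ : ℤ), mem_nonZeroDivisors_of_ne_zero (by omega)⟩,
    Submodule.smul_torsionBy (ℓ : ℤ) x⟩)

lemma minimal_torsion (T : Models.NumericalType n) (hmin : T.IsMinimal) (hg : 2 ≤ T.genus) (ℓ : ℕ)
    (hℓ : ℓ.Prime) (hℓg : 768 * T.genus < ℓ) :
    Nat.card (Submodule.torsionBy ℤ T.Pic (ℓ : ℤ)) ≤ ℓ ^ T.topGenus.toNat ∧ T.topGenus ≤ T.genus := by
  haveI := Fact.mk hℓ
  rcases (by have := T.pos; omega : n = 1 ∨ 1 < n) with rfl | hn
  · obtain ⟨f, hf⟩ := pic_one T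
    refine ⟨?_, ?_⟩
    · haveI : Subsingleton (Submodule.torsionBy ℤ T.Pic (ℓ : ℤ)) := by
        refine ⟨fun x y => ?_⟩
        have key : ∀ z : Submodule.torsionBy ℤ T.Pic (ℓ : ℤ), f z.1 = 0 := fun z => by
          have h := congrArg f ((Submodule.mem_torsionBy_iff _ _).1 z.2)
          rw [map_zsmul, map_zero, smul_eq_mul] at h
          exact (mul_eq_zero.1 h).resolve_left (Int.natCast_ne_zero.2 hℓ.ne_zero)
        exact Subtype.ext (hf (by rw [key x, key y]))
      rw [Nat.card_of_subsingleton (0 : Submodule.torsionBy ℤ T.Pic (ℓ : ℤ))]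
      exact Nat.one_le_pow _ _ hℓ.pos
    · have he : T.edgeCount = 0 := by
        simp [Models.NumericalType.edgeCount, Finset.filter_eq_empty_iff, Fin.eq_zero]
      simp [Models.NumericalType.topGenus, he]
      omega
  · refine ⟨?_, topGenus_le_genus T hmin hn⟩
    obtain ⟨f, hf, -⟩ := pic_to_cokerA T
    haveI := finite_torsion T.CokerA ℓ hℓ.pos
    refine (card_torsion_le ℓ f hf).trans ?_
    have hb := bound768 T hmin hg
    have hdvd : ∀ z : ℤ, 0 < z → z ≤ 768 * T.genus → ¬((ℓ : ℤ) ∣ z) := fun z h1 h2 h3 => by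
      have := Int.le_of_dvd h1 h3
      omega
    refine (torsion_bound T.pos T.a T.m T.symm T.offDiag_nonneg T.mulVec_m T.connected ℓ hℓ ?_ ?_).trans_eq ?_
    · intro i j hij
      rw [← dvd_abs]
      exact hdvd _ (abs_pos.2 hij) (le_trans (le_mul_of_one_le_left (abs_nonneg _) (T.m_pos i)) (hb i j))
    · intro i
      exact hdvd _ (T.m_pos i) (le_trans (le_mul_of_one_le_right (T.m_pos i).le
        (abs_pos.2 (diag_neg T hn i).ne)) (hb i i))
    · congr 1
      simp only [Models.NumericalType.topGenus, Models.NumericalType.edgeCount]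
      omega

theorem torsion_genus : ∀ {n : ℕ} (T : Models.NumericalType n), 2 ≤ T.genus → ∀ ℓ : ℕ, ℓ.Prime →
    768 * T.genus < ℓ → Nat.card (Submodule.torsionBy ℤ T.Pic (ℓ : ℤ)) ≤ ℓ ^ T.genus.toNat := by
  intro n
  induction n with
  | zero => intro T; exact absurd T.pos (lt_irrefl 0)
  | succ k ih =>
    intro T hg ℓ hℓ hℓg
    by_cases hmin : T.IsMinimal
    · obtain ⟨h1, h2⟩ := minimal_torsion T hmin hg ℓ hℓ hℓg
      exact h1.trans (Nat.pow_le_pow_right hℓ.pos (Int.toNat_le_toNat h2))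
    · obtain ⟨T', hg', f, hf⟩ := exists_contraction T hmin
      haveI := finite_torsion T'.Pic ℓ hℓ.pos
      refine (card_torsion_le ℓ f hf).trans ?_
      rw [← hg'] at hg hℓg ⊢
      exact ih T' hg ℓ hℓ hℓg

end Groth.Agent.NumTypeLib
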