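import Groth.Agent.NumTypeLib.Families
import Mathlib.Tactic.FinCases
import Mathlib.Tactic.IntervalCases

/-!
# Classification of types all of whose indices are (-2)-indices
-/

namespace Groth.Agent.NumTypeLib

open Finset Real

variable {n : ℕ}

/-- the completed G2 graph -/
def g2E : Edges (Fin 3) (Fin 2) := ⟨![0, 1], ![1, 2]⟩
/-- its edge constants -/
def g2C : Fin 2 → ℕ := ![1, 3]
/-- its null vector -/
noncomputable def g2Y : Fin 3 → ℝ := ![1, 2, √3]
/-- the completed F4 graph -/
def f4E : Edges (Fin 5) (Fin 4) := ⟨![0, 1, 2, 3], ![1, 2, 3, 4]⟩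
/-- its edge constants -/
def f4C : Fin 4 → ℕ := ![1, 1, 2, 1]
/-- its null vector -/
noncomputable def f4Y : Fin 5 → ℝ := ![1, 2, 3, 2 * √2, √2]
/-- the completed E6 graph -/
def e6E : Edges (Fin 7) (Fin 6) := ⟨![0, 1, 3, 4, 5, 6], ![1, 2, 4, 2, 6, 2]⟩
/-- its null vector -/
def e6Y : Fin 7 → ℝ := ![1, 2, 3, 1, 2, 1, 2]
/-- the completed E7 graph -/
def e7E : Edges (Fin 8) (Fin 7) := ⟨![0, 1, 2, 3, 4, 5, 7], ![1, 2, 3, 4, 5, 6, 3]⟩
/-- its null vector -/
def e7Y : Fin 8 → ℝ := ![1, 2, 3, 4, 3, 2, 1, 2]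
/-- the completed E8 graph -/
def e8E : Edges (Fin 9) (Fin 8) := ⟨![0, 1, 2, 3, 4, 5, 6, 8], ![1, 2, 3, 4, 5, 6, 7, 5]⟩
/-- its null vector -/
def e8Y : Fin 9 → ℝ := ![1, 2, 3, 4, 5, 6, 4, 2, 3]

/-- one of the twelve kinds of minimal types of genus one on at least three indices -/
def AffineType (T : Models.NumericalType n) : Prop :=
  CycleType T ∨ ChainUU T ∨ ChainUD T ∨ ChainDU T ∨ (ForkD T ∧ 4 ≤ n) ∨ (ForkU T ∧ 4 ≤ n) ∨
    (DForkType T ∧ 5 ≤ n) ∨
    (∃ v, Tight T v g2E g2C g2Y) ∨ (∃ v, Tight T v f4E f4C f4Y) ∨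
    (∃ v, Tight T v e6E (fun _ => 1) e6Y) ∨ (∃ v, Tight T v e7E (fun _ => 1) e7Y) ∨
    (∃ v, Tight T v e8E (fun _ => 1) e8Y)

variable (T : Models.NumericalType n)

/-- a path in the graph of a numerical type -/
structure IsPath (t : ℕ) (p : ℕ → Fin n) : Prop where
  inj : ∀ i j, i < t → j < t → p i = p j → i = j
  adj : ∀ i, i + 1 < t → 0 < T.a (p i) (p (i + 1))

variable {T}

lemma dfork_out {N : ℕ} {v : Fin N → Fin n} (hN : 5 ≤ N)
    (h : Tight T v (dforkE N) (fun _ => 1) (dforkY N)) : DForkType T ∧ 5 ≤ n :=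
  ⟨h.dfork hN, h.span ▸ hN⟩

lemma fork_out {N : ℕ} {v : Fin N → Fin n} (hN : 4 ≤ N)
    (h : Tight T v (forkE N) (forkC N) (forkY N)) : (ForkD T ∧ 4 ≤ n) ∨ (ForkU T ∧ 4 ≤ n) :=
  (h.fork hN).imp (fun a => ⟨a, h.span ▸ hN⟩) (fun a => ⟨a, h.span ▸ hN⟩)

lemma IsPath.le {t : ℕ} {p : ℕ → Fin n} (h : IsPath T t p) : t ≤ n := by
  have := Fintype.card_le_of_injective (fun i : Fin t => p i.val) (fun i j e => Fin.ext (h.inj _ _ i.isLt j.isLt e))
  simpa using this

lemma IsPath.rev {t : ℕ} {p : ℕ → Fin n} (h : IsPath T t p) : IsPath T t (fun l => p (t - 1 - l)) where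
  inj i j hi hj e := by have := h.inj _ _ (by omega) (by omega) e; omega
  adj i hi := by
    rw [a_symm]
    have := h.adj (t - 1 - (i + 1)) (by omega)
    rwa [show t - 1 - (i + 1) + 1 = t - 1 - i by omega] at this

/-- the vertices of a path -/
def pathSet (t : ℕ) (p : ℕ → Fin n) : Finset (Fin n) := (range t).image p

lemma mem_pathSet {t : ℕ} {p : ℕ → Fin n} {x : Fin n} : x ∈ pathSet t p ↔ ∃ l < t, p l = x := by
  simp [pathSet]

/-- Prepend a vertex to a path. -/
lemma IsPath.cons {t : ℕ} {p : ℕ → Fin n} (h : IsPath T t p) {x : Fin n} (hx : ∀ l < t, p l ≠ x)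
    (ha : 0 < T.a x (p 0)) : IsPath T (t + 1) (fun l => if l = 0 then x else p (l - 1)) where
  inj i j hi hj e := by
    split_ifs at e with h1 h2 h3
    · omega
    · exact absurd e.symm (hx _ (by omega))
    · exact absurd e (hx _ (by omega))
    · have := h.inj _ _ (by omega) (by omega) e; omega
  adj i hi := by
    rcases Nat.eq_zero_or_pos i with rfl | h0
    · simpa using ha
    · simp only [Nat.add_eq_zero_iff, one_ne_zero, and_false, if_false, if_neg (by omega : ¬ i = 0)]
      have := h.adj (i - 1) (by omega)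
      rwa [show i - 1 + 1 = i + 1 - 1 by omega] at this

lemma exists_longest (hn : 3 ≤ n) : ∃ t p, IsPath T t p ∧ 3 ≤ t ∧ ∀ s q, IsPath T s q → s ≤ t := by
  classical
  obtain ⟨j, hj, hij⟩ := exists_adj T (by omega) (⟨0, T.pos⟩ : Fin n)
  set i : Fin n := ⟨0, T.pos⟩
  obtain ⟨k, hk, l, hl, hkl⟩ := T.connected {i, j} ⟨i, by simp⟩ (fun e => by
    have := congrArg Finset.card e
    rw [card_pair hj.symm, card_univ, Fintype.card_fin] at this
    omega)
  simp only [mem_insert, mem_singleton, not_or] at hk hl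
  have hkl' : 0 < T.a k l := lt_of_le_of_ne (T.offDiag_nonneg _ _ (by
    rintro rfl; rcases hk with h | h; exacts [hl.1 h, hl.2 h])) (Ne.symm hkl)
  have h2 : ∀ u v : Fin n, u ≠ v → l ≠ u → l ≠ v → 0 < T.a u v → 0 < T.a l u → ∃ q, IsPath T 3 q := by
    intro u v huv hlu hlv h1 h2
    have : IsPath T 2 (fun a => if a = 0 then u else v) :=
      ⟨fun a b ha hb e => by interval_cases a <;> interval_cases b <;> simp_all, fun a ha => by
        obtain rfl : a = 0 := by omega
        simpa using h1⟩
    exact ⟨_, this.cons (x := l) (fun a ha => by interval_cases a <;> simp [hlu.symm, hlv.symm]) (by simpa using h2)⟩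
  have h3 : ∃ q, IsPath T 3 q := by
    rw [a_symm] at hkl'
    rcases hk with rfl | rfl
    · exact h2 _ j hj.symm hl.1 hl.2 hij hkl'
    · exact h2 _ i hj hl.2 hl.1 (by rwa [a_symm]) hkl'
  obtain ⟨t, ht, hmax⟩ := ((range (n + 1)).filter fun s => ∃ q, IsPath T s q).exists_max_image id
    ⟨3, by simp only [mem_filter, mem_range]; exact ⟨by omega, h3⟩⟩
  simp only [mem_filter, mem_range, id, and_imp] at ht hmax
  obtain ⟨-, p, hp⟩ := ht
  refine ⟨t, p, hp, hmax 3 (by omega) h3, fun s q hq => hmax s ?_ ⟨q, hq⟩⟩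
  have := hq.le
  omega

section

variable (hall : ∀ i, T.IsMinusTwo i)
include hall

/-- the row of a (-2)-index whose neighbours are contained in `S` -/
lemma row_eq (i : Fin n) (S : Finset (Fin n)) (hS : i ∉ S)
    (hz : ∀ j, j ≠ i → j ∉ S → T.a i j = 0) : ∑ j ∈ S, T.a i j * T.m j = 2 * T.w i * T.m i := by
  have h := sum_row_erase T i
  rw [(hall i).2, ← sum_subset (s₁ := S) (s₂ := univ.erase i) (f := fun j => T.a i j * T.m j)
    (fun j hj => mem_erase.2 ⟨fun e => hS (e ▸ hj), mem_univ j⟩)
    (fun j hj hjS => by rw [hz j (ne_of_mem_erase hj) hjS, zero_mul])] at h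
  linarith

variable {t : ℕ} {p : ℕ → Fin n} (hp : IsPath T t p)
include hp

lemma chord_case {i j : ℕ} (hij : i + 2 ≤ j) (hj : j < t) (h : T.a (p i) (p j) ≠ 0) : AffineType T := by
  refine Or.inl (Tight.cycle (v := fun x : Fin (j - i + 1) => p (i + x.val))
    (cycle_tight (by omega) _ ?_ (fun _ => hall _) (fun l => ?_)))
  · intro x y e
    have := hp.inj _ _ (by omega) (by omega) e
    exact Fin.ext (by omega)
  · dsimp only [cycleE]
    split_ifs with h1
    · exact hp.adj _ (by omega)
    · rw [show i + l.val = j by omega, Nat.add_zero, a_symm]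
      exact lt_of_le_of_ne (T.offDiag_nonneg _ _ (fun e => by
        have := hp.inj _ _ (by omega) hj e; omega)) (Ne.symm h)

lemma two_heavy_case {i j : ℕ} (hij : i < j) (hj : j + 1 < t) (h1 : Heavy T (p i) (p (i + 1)))
    (h2 : Heavy T (p j) (p (j + 1))) : AffineType T := by
  have := ends_tight (T := T) (N := j - i + 2) (by omega) (fun x => p (i + x.val)) (by
    intro x y e
    have := hp.inj _ _ (by omega) (by omega) e
    exact Fin.ext (by omega)) (fun _ => hall _) (fun l => hp.adj _ (by simp [chainE]; omega)) (by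
    intro l hl
    dsimp only [chainE]
    rcases hl with hl | hl
    · rwa [hl, Nat.add_zero, show i + (0 + 1) = i + 1 by omega]
    · rwa [show i + l.val = j by omega, show i + (l.val + 1) = j + 1 by omega])
  rcases this.ends (by omega) with h | h | h
  · exact Or.inr (Or.inl h)
  · exact Or.inr (Or.inr (Or.inl h))
  · exact Or.inr (Or.inr (Or.inr (Or.inl h)))

lemma f4_case {l : ℕ} (h2 : 2 ≤ l) (hl : l + 2 < t) (hh : Heavy T (p l) (p (l + 1))) : AffineType T := by
  have e1 : 0 < T.a (p (l - 2)) (p (l - 2 + 1)) := hp.adj _ (by omega)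
  have e2 : 0 < T.a (p (l - 2 + 1)) (p l) := by
    have := hp.adj (l - 2 + 1) (by omega); rwa [show l - 2 + 1 + 1 = l by omega] at this
  have e4 : 0 < T.a (p (l + 1)) (p (l + 2)) := hp.adj _ hl
  have inj := hp.inj
  refine Or.inr (Or.inr (Or.inr (Or.inr (Or.inr (Or.inr (Or.inr (Or.inr (Or.inl
    ⟨![p (l - 2), p (l - 2 + 1), p l, p (l + 1), p (l + 2)], tight T _ ?_ (fun _ => hall _) f4E
      (by decide) f4C ?_ ?_ f4Y ?_ (by norm_num) ?_⟩))))))))
  · intro a b e
    fin_cases a <;> fin_cases b <;> first | rfl | (have := inj _ _ (by omega) (by omega) e; omega)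
  · intro e; fin_cases e <;> first | exact e1 | exact e2 | exact hh.1 | exact e4
  · intro e
    fin_cases e
    · exact one_ww T e1
    · exact one_ww T e2
    · exact hh.2
    · exact one_ww T e4
  · intro a; fin_cases a <;> simp [f4Y]
  · have : √(2:ℝ) * √2 = 2 := Real.mul_self_sqrt (by norm_num)
    simp [Fin.sum_univ_five, Fin.sum_univ_four, f4Y, f4C, f4E]
    nlinarith

lemma g2_case (ht : t = 3) (hh : 3 * (T.w (p 1) * T.w (p 2)) ≤ T.a (p 1) (p 2) ^ 2) : AffineType T := by
  subst ht
  have inj := hp.inj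
  refine Or.inr (Or.inr (Or.inr (Or.inr (Or.inr (Or.inr (Or.inr (Or.inl
    ⟨![p 0, p 1, p 2], tight T _ ?_ (fun _ => hall _) g2E (by decide) g2C ?_ ?_ g2Y ?_ (by norm_num) ?_⟩)))))))
  · intro a b e
    fin_cases a <;> fin_cases b <;> first | rfl | (have := inj _ _ (by omega) (by omega) e; omega)
  · intro e; fin_cases e <;> first | exact hp.adj 0 (by norm_num) | exact hp.adj 1 (by norm_num)
  · intro e
    fin_cases e
    · exact one_ww T (hp.adj 0 (by norm_num))
    · simpa [g2C, g2E] using hh
  · intro a; fin_cases a <;> simp [g2Y]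
  · have : √(3:ℝ) * √3 = 3 := Real.mul_self_sqrt (by norm_num)
    simp [Fin.sum_univ_three, Fin.sum_univ_two, g2Y, g2C, g2E]
    nlinarith

/-- on a simple initial segment the multiplicities grow linearly -/
lemma prefix_simple
    (hz : ∀ i j, i + 2 ≤ j → j < t → T.a (p i) (p j) = 0) {L : ℕ} (hL : L < t)
    (hoff : ∀ k < L, ∀ x, (∀ l < t, p l ≠ x) → T.a (p k) x = 0)
    (hs : ∀ l, l + 1 ≤ L → Simple T (p l) (p (l + 1))) :
    ∀ k ≤ L, T.w (p k) = T.w (p 0) ∧ T.m (p k) = (k + 1) * T.m (p 0) := by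
  intro k
  induction k using Nat.strong_induction_on with
  | _ k ih =>
    intro hk
    rcases Nat.eq_zero_or_pos k with rfl | hk0
    · simp
    obtain ⟨k, rfl⟩ : ∃ k', k = k' + 1 := ⟨k - 1, by omega⟩
    obtain ⟨hw, hm⟩ := ih k (by omega) (by omega)
    refine ⟨(hs k hk).2.trans hw, ?_⟩
    have hne : ∀ a b, a < t → b < t → a ≠ b → p a ≠ p b := fun a b ha hb hab e => hab (hp.inj _ _ ha hb e)
    rcases Nat.eq_zero_or_pos k with rfl | hk0'
    · have h := row_eq hall (p 0) {p 1} (by simpa using hne 0 1 (by omega) (by omega) (by omega))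
        (fun j hj hjS => by
          by_cases hc : ∃ l < t, p l = j
          swap
          · push Not at hc; exact hoff 0 (by omega) j hc
          obtain ⟨l, hl, rfl⟩ := hc
          exact hz 0 l (by
            by_contra hc
            rcases (by omega : l = 0 ∨ l = 1) with rfl | rfl <;> simp at hj hjS) hl)
      rw [sum_singleton, (hs 0 hk).1] at h
      have h' : T.m (p 1) = 2 * T.m (p 0) := mul_left_cancel₀ (T.w_pos (p 0)).ne' (by linarith)
      simpa [add_assoc] using h'
    · obtain ⟨k, rfl⟩ : ∃ k', k = k' + 1 := ⟨k - 1, by omega⟩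
      have h := row_eq hall (p (k + 1)) {p k, p (k + 2)} (by
          simp [hne (k + 1) k (by omega) (by omega) (by omega), hne (k + 1) (k + 2) (by omega) (by omega) (by omega)])
        (fun j hj hjS => by
          by_cases hc : ∃ l < t, p l = j
          swap
          · push Not at hc; exact hoff (k + 1) (by omega) j hc
          obtain ⟨l, hl, rfl⟩ := hc
          simp only [mem_insert, mem_singleton, not_or] at hjS
          rcases (by omega : l + 1 ≤ k ∨ l = k ∨ l = k + 1 ∨ l = k + 2 ∨ k + 3 ≤ l) with h | rfl | rfl | rfl | h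
          · rw [a_symm]; exact hz l (k + 1) (by omega) (by omega)
          · exact absurd rfl hjS.1
          · exact absurd rfl hj
          · exact absurd rfl hjS.2
          · exact hz (k + 1) l (by omega) hl)
      rw [sum_pair (hne k (k + 2) (by omega) (by omega) (by omega)), (hs (k + 1) hk).1,
        a_symm T (p (k + 1)) (p k), (hs k (by omega)).1] at h
      obtain ⟨hw', hm'⟩ := ih k (by omega) (by omega)
      have hwk := (hs k (by omega)).2
      rw [hwk] at h
      have h' : T.m (p (k + 2)) = 2 * T.m (p (k + 1)) - T.m (p k) :=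
        mul_left_cancel₀ (T.w_pos (p k)).ne' (by linarith)
      rw [h', hm', hm]
      push_cast
      ring

/-- a chain with all edges but possibly the last one simple is not of genus one -/
lemma prefix_absurd (ht : 3 ≤ t) (hcov : ∀ x, ∃ l < t, p l = x)
    (hz : ∀ i j, i + 2 ≤ j → j < t → T.a (p i) (p j) = 0)
    (hs : ∀ l, l + 2 < t → Simple T (p l) (p (l + 1)))
    (hlast : Simple T (p (t - 2)) (p (t - 1)) ∨ Up T (p (t - 2)) (p (t - 1)) ∨ Up T (p (t - 1)) (p (t - 2))) :
    False := by
  obtain ⟨hwc, hmc⟩ := prefix_simple hall hp hz (L := t - 2) (by omega) (fun _ _ x hx => absurd (hcov x) (fun ⟨l, hl, e⟩ => hx l hl e)) (fun l hl => hs l (by omega)) _ le_rfl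
  obtain ⟨hwb, hmb⟩ := prefix_simple hall hp hz (L := t - 2) (by omega) (fun _ _ x hx => absurd (hcov x) (fun ⟨l, hl, e⟩ => hx l hl e)) (fun l hl => hs l (by omega)) (t - 3) (by omega)
  have hne : ∀ a b, a < t → b < t → a ≠ b → p a ≠ p b := fun a b ha hb hab e => hab (hp.inj _ _ ha hb e)
  have rd := row_eq hall (p (t - 1)) {p (t - 2)} (by simpa using hne (t - 1) (t - 2) (by omega) (by omega) (by omega))
    (fun j hj hjS => by
      obtain ⟨l, hl, rfl⟩ := hcov j
      rw [a_symm]
      refine hz l (t - 1) ?_ (by omega)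
      by_contra hc
      rcases (by omega : l = t - 2 ∨ l = t - 1) with rfl | rfl <;> simp at hj hjS)
  have rc := row_eq hall (p (t - 2)) {p (t - 3), p (t - 1)} (by
      simp [hne (t - 2) (t - 3) (by omega) (by omega) (by omega), hne (t - 2) (t - 1) (by omega) (by omega) (by omega)])
    (fun j hj hjS => by
      obtain ⟨l, hl, rfl⟩ := hcov j
      simp only [mem_insert, mem_singleton, not_or] at hjS
      rcases (by omega : l + 4 ≤ t ∨ l = t - 3 ∨ l = t - 2 ∨ l = t - 1) with h | rfl | rfl | rfl
      · rw [a_symm]; exact hz l (t - 2) (by omega) (by omega)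
      · exact absurd rfl hjS.1
      · exact absurd rfl hj
      · exact absurd rfl hjS.2)
  have hs' : Simple T (p (t - 3)) (p (t - 2)) := by
    have := hs (t - 3) (by omega)
    rwa [show t - 3 + 1 = t - 2 by omega] at this
  rw [sum_singleton, a_symm] at rd
  rw [sum_pair (hne (t - 3) (t - 1) (by omega) (by omega) (by omega)), a_symm T (p (t - 2)) (p (t - 3)),
    hs'.1, hwb, hmb, hmc, hwc] at rc
  have hM := T.m_pos (p 0)
  have hW := T.w_pos (p 0)
  have hWd := T.w_pos (p (t - 1))
  have htc : ((t - 2 : ℕ) : ℤ) = (t : ℤ) - 2 := by omega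
  have htb : ((t - 3 : ℕ) : ℤ) = (t : ℤ) - 3 := by omega
  rw [htc, htb] at rc
  rw [htc] at hmc
  rcases hlast with ⟨a, w⟩ | ⟨w, a⟩ | ⟨w, a⟩
  · rw [a, hwc] at rc
    rw [a, w, hwc, hmc] at rd
    have h1 : T.m (p (t - 1)) = (t : ℤ) * T.m (p 0) := mul_left_cancel₀ hW.ne' (by linarith)
    have h2 : ((t : ℤ) - 2 + 1) * T.m (p 0) = 2 * T.m (p (t - 1)) := mul_left_cancel₀ hW.ne' (by linarith)
    nlinarith
  · rw [a, hwc] at rc
    rw [a, w, hwc, hmc] at rd
    have h1 : 2 * T.m (p (t - 1)) = (t : ℤ) * T.m (p 0) := mul_left_cancel₀ hW.ne' (by linarith)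
    have h2 : ((t : ℤ) - 2 + 1) * T.m (p 0) = 2 * T.m (p (t - 1)) := mul_left_cancel₀ hW.ne' (by linarith)
    nlinarith
  · rw [a_symm] at a
    rw [hwc] at w
    rw [a, w] at rc
    rw [a, hmc] at rd
    have h1 : T.m (p (t - 1)) = (t : ℤ) * T.m (p 0) := mul_left_cancel₀ hWd.ne' (by linarith)
    have h2 : ((t : ℤ) - 2 + 1) * T.m (p 0) = T.m (p (t - 1)) := mul_left_cancel₀ hWd.ne' (by linarith)
    nlinarith

lemma chain_case (ht : 3 ≤ t) (hcov : ∀ x, ∃ l < t, p l = x)
    (hz : ∀ i j, i + 2 ≤ j → j < t → T.a (p i) (p j) = 0) : AffineType T := by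
  have hne : ∀ a b, a < t → b < t → a ≠ b → p a ≠ p b := fun a b ha hb hab e => hab (hp.inj _ _ ha hb e)
  have hcard : t = n := by
    refine le_antisymm hp.le ?_
    have := Fintype.card_le_of_surjective (fun i : Fin t => p i.val) (fun x => by
      obtain ⟨l, hl, e⟩ := hcov x; exact ⟨⟨l, hl⟩, e⟩)
    simpa using this
  -- a triple edge
  by_cases h3 : ∃ l, l + 1 < t ∧ 3 * (T.w (p l) * T.w (p (l + 1))) ≤ T.a (p l) (p (l + 1)) ^ 2
  · obtain ⟨l, hl, hh⟩ := h3
    by_cases ht3 : t = 3
    · rcases (by omega : l = 0 ∨ l = 1) with rfl | rfl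
      · refine g2_case hall hp.rev ht3 ?_
        simp only [ht3]
        rw [a_symm, mul_comm (T.w _)]; exact hh
      · exact g2_case hall hp ht3 hh
    · exfalso
      by_cases hl2 : l + 2 < t
      · exact triple_adj T (by omega) (hall _) (hall _) (hall _) (hne l (l + 2) (by omega) hl2 (by omega))
          (hp.adj l hl) (hp.adj (l + 1) hl2) hh
      · have h1 := hp.adj (l - 1) (by omega)
        rw [show l - 1 + 1 = l by omega, a_symm] at h1
        exact triple_adj T (by omega) (hall _) (hall _) (hall _) (hne (l + 1) (l - 1) hl (by omega) (by omega))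
          (by rw [a_symm]; exact hp.adj l hl) h1 (by rwa [a_symm, mul_comm (T.w (p (l + 1)))])
  push Not at h3
  have kind : ∀ l, l + 1 < t → Simple T (p l) (p (l + 1)) ∨ Up T (p l) (p (l + 1)) ∨ Up T (p (l + 1)) (p l) := by
    intro l hl
    have hw1 := T.w_pos (p l)
    have hw2 := T.w_pos (p (l + 1))
    rcases edge_split T (by omega) (hall _) (hall _) (hp.adj l hl) with h | ⟨c, rfl | rfl, ⟨h1, h2⟩ | ⟨h1, h2⟩⟩
    · exact Or.inl h
    · exact Or.inr (Or.inl ⟨h1, h2⟩)
    · exact Or.inr (Or.inr ⟨h1, by rwa [a_symm]⟩)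
    · have := h3 l hl; rw [h1, h2] at this; nlinarith
    · have := h3 l hl; rw [h1, h2] at this; nlinarith
  have soh : ∀ l, l + 1 < t → Simple T (p l) (p (l + 1)) ∨ Heavy T (p l) (p (l + 1)) :=
    fun l hl => simple_or_heavy T (by omega) (hall _) (hall _) (hp.adj l hl)
  by_cases h2 : ∃ i j, i < j ∧ j + 1 < t ∧ Heavy T (p i) (p (i + 1)) ∧ Heavy T (p j) (p (j + 1))
  · obtain ⟨i, j, hij, hj, a, b⟩ := h2
    exact two_heavy_case hall hp hij hj a b
  push Not at h2
  -- the only possibly heavy edge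
  have hsimple : ∀ l, l + 1 < t → Heavy T (p l) (p (l + 1)) → ∀ k, k + 1 < t → k ≠ l → Simple T (p k) (p (k + 1)) := by
    intro l hl hh k hk hkl
    rcases soh k hk with h | h
    · exact h
    · rcases lt_or_gt_of_ne hkl with h' | h'
      · exact absurd hh (h2 k l h' hl h)
      · exact absurd h (h2 l k h' hk hh)
  by_cases hh : ∃ l, l + 1 < t ∧ Heavy T (p l) (p (l + 1))
  swap
  · push Not at hh
    refine (prefix_absurd hall hp ht hcov hz (fun l hl => (soh l (by omega)).resolve_right (hh l (by omega))) ?_).elim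
    have := (soh (t - 2) (by omega)).resolve_right (hh (t - 2) (by omega))
    rw [show t - 2 + 1 = t - 1 by omega] at this
    exact Or.inl this
  obtain ⟨l, hl, hh⟩ := hh
  by_cases hlast : l + 2 = t
  · refine (prefix_absurd hall hp ht hcov hz (fun k hk => hsimple l hl hh k (by omega) (by omega)) ?_).elim
    have := kind l hl
    rwa [show l = t - 2 by omega, show t - 2 + 1 = t - 1 by omega] at this
  by_cases hfirst : l = 0
  · subst hfirst
    refine (prefix_absurd hall hp.rev ht ?_ ?_ ?_ ?_).elim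
    · intro x
      obtain ⟨k, hk, rfl⟩ := hcov x
      exact ⟨t - 1 - k, by omega, by congr 1; omega⟩
    · intro i j hij hj
      rw [a_symm]; exact hz _ _ (by omega) (by omega)
    · intro k hk
      have := (hsimple 0 hl hh (t - 1 - (k + 1)) (by omega) (by omega)).symm T
      rwa [show t - 1 - (k + 1) + 1 = t - 1 - k by omega] at this
    · have := kind 0 hl
      simp only [show t - 1 - (t - 2) = 1 by omega, show t - 1 - (t - 1) = 0 by omega]
      rcases this with h | h | h
      · exact Or.inl (h.symm T)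
      · exact Or.inr (Or.inr h)
      · exact Or.inr (Or.inl h)
  by_cases hl2 : 2 ≤ l
  · exact f4_case hall hp hl2 (by omega) hh
  obtain rfl : l = 1 := by omega
  by_cases ht5 : 5 ≤ t
  · refine f4_case hall hp.rev (l := t - 3) (by omega) (by omega) ?_
    have := hh.symm T
    simpa only [show t - 1 - (t - 3) = 2 by omega, show t - 1 - (t - 3 + 1) = 1 by omega] using this
  obtain rfl : t = 4 := by omega
  exfalso
  obtain ⟨a0, w0⟩ := hsimple 1 hl hh 0 (by omega) (by omega)
  obtain ⟨a2, w2⟩ := hsimple 1 hl hh 2 (by omega) (by omega)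
  have r0 := row_eq hall (p 0) {p 1} (by simpa using hne 0 1 (by omega) (by omega) (by omega))
    (fun j hj hjS => by
      obtain ⟨k, hk, rfl⟩ := hcov j
      exact hz 0 k (by by_contra hc; rcases (by omega : k = 0 ∨ k = 1) with rfl | rfl <;> simp at hj hjS) hk)
  have r3 := row_eq hall (p 3) {p 2} (by simpa using hne 3 2 (by omega) (by omega) (by omega))
    (fun j hj hjS => by
      obtain ⟨k, hk, rfl⟩ := hcov j
      rw [a_symm]
      exact hz k 3 (by by_contra hc; rcases (by omega : k = 2 ∨ k = 3) with rfl | rfl <;> simp at hj hjS) (by omega))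
  have r1 := row_eq hall (p 1) {p 0, p 2}
    (by simp [hne 1 0 (by omega) (by omega) (by omega), hne 1 2 (by omega) (by omega) (by omega)])
    (fun j hj hjS => by
      obtain ⟨k, hk, rfl⟩ := hcov j
      simp only [mem_insert, mem_singleton, not_or] at hjS
      interval_cases k <;> first | exact absurd rfl hjS.1 | exact absurd rfl hj | exact absurd rfl hjS.2 |
        exact hz 1 3 (by omega) (by omega))
  have r2 := row_eq hall (p 2) {p 1, p 3}
    (by simp [hne 2 1 (by omega) (by omega) (by omega), hne 2 3 (by omega) (by omega) (by omega)])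
    (fun j hj hjS => by
      obtain ⟨k, hk, rfl⟩ := hcov j
      simp only [mem_insert, mem_singleton, not_or] at hjS
      interval_cases k <;> first | exact absurd rfl hjS.1 | exact absurd rfl hj | exact absurd rfl hjS.2 |
        (rw [a_symm]; exact hz 0 2 (by omega) (by omega)))
  rw [sum_singleton, a0] at r0
  rw [sum_singleton, a_symm, a2, w2] at r3
  rw [sum_pair (hne 0 2 (by omega) (by omega) (by omega)), a_symm T (p 1) (p 0), a0] at r1
  rw [sum_pair (hne 1 3 (by omega) (by omega) (by omega)), a_symm T (p 2) (p 1), a2] at r2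
  have hw1 : T.w (p 1) = T.w (p 0) := w0
  have hW := T.w_pos (p 0)
  have hW2 := T.w_pos (p 2)
  have e1 : T.m (p 1) = 2 * T.m (p 0) := mul_left_cancel₀ hW.ne' (by linarith)
  have e2 : T.m (p 2) = 2 * T.m (p 3) := mul_left_cancel₀ hW2.ne' (by linarith)
  have := T.m_pos (p 0)
  have := T.m_pos (p 3)
  rcases kind 1 hl with ⟨a1, w1⟩ | ⟨w1, a1⟩ | ⟨w1, a1⟩
  · rw [a1, hw1, e1, e2] at r1; rw [a1, w1, hw1, e1, e2] at r2
    have f1 : 2 * T.m (p 3) = 3 * T.m (p 0) := mul_left_cancel₀ hW.ne' (by linarith)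
    have f2 : 2 * T.m (p 0) = 3 * T.m (p 3) := mul_left_cancel₀ hW.ne' (by linarith)
    omega
  · rw [a1, hw1, e1, e2] at r1; rw [a1, w1, hw1, e1, e2] at r2
    have f1 : 4 * T.m (p 3) = 3 * T.m (p 0) := mul_left_cancel₀ hW.ne' (by linarith)
    have f2 : 4 * T.m (p 0) = 6 * T.m (p 3) := mul_left_cancel₀ hW.ne' (by linarith)
    omega
  · rw [a_symm] at a1
    rw [hw1] at w1
    rw [a1, hw1, w1, e1, e2] at r1; rw [a1, e1, e2] at r2
    have f1 : 4 * T.m (p 3) = 6 * T.m (p 0) := mul_left_cancel₀ hW2.ne' (by linarith)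
    have f2 : 4 * T.m (p 0) = 3 * T.m (p 3) := mul_left_cancel₀ hW2.ne' (by linarith)
    omega

variable {x : Fin n} {i : ℕ}

lemma e6_case (hi : 2 ≤ i) (hit : i + 2 < t) (hx : ∀ l < t, p l ≠ x) {y : Fin n} (hy : ∀ l < t, p l ≠ y)
    (hxy : x ≠ y) (hix : 0 < T.a (p i) x) (hyx : 0 < T.a x y) : AffineType T := by
  have inj := hp.inj
  have e1 : 0 < T.a (p (i - 2)) (p (i - 2 + 1)) := hp.adj _ (by omega)
  have e2 : 0 < T.a (p (i - 2 + 1)) (p i) := by
    have := hp.adj (i - 2 + 1) (by omega); rwa [show i - 2 + 1 + 1 = i by omega] at this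
  have e3 : 0 < T.a y x := by rwa [a_symm]
  have e4 : 0 < T.a x (p i) := by rwa [a_symm]
  have e5 : 0 < T.a (p (i + 2)) (p (i + 1)) := by rw [a_symm]; exact hp.adj _ hit
  have e6 : 0 < T.a (p (i + 1)) (p i) := by rw [a_symm]; exact hp.adj _ (by omega)
  refine Or.inr (Or.inr (Or.inr (Or.inr (Or.inr (Or.inr (Or.inr (Or.inr (Or.inr (Or.inl
    ⟨![p (i - 2), p (i - 2 + 1), p i, y, x, p (i + 2), p (i + 1)], tight T _ ?_ (fun _ => hall _) e6E
      (by decide) (fun _ => 1) ?_ ?_ e6Y ?_ (by norm_num) ?_⟩)))))))))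
  · intro a b e
    fin_cases a <;> fin_cases b <;> first
      | rfl | exact absurd e hxy | exact absurd e.symm hxy
      | exact absurd e (hx _ (by omega)) | exact absurd e.symm (hx _ (by omega))
      | exact absurd e (hy _ (by omega)) | exact absurd e.symm (hy _ (by omega))
      | (have := inj _ _ (by omega) (by omega) e; omega)
  · intro e; fin_cases e <;> assumption
  · intro e; fin_cases e <;> exact one_ww T (by assumption)
  · intro a; fin_cases a <;> simp [e6Y]
  · simp [Fin.sum_univ_succ, e6Y, e6E]; norm_num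

lemma e7_case (hi : 3 ≤ i) (hit : i + 3 < t) (hx : ∀ l < t, p l ≠ x) (hix : 0 < T.a (p i) x) :
    AffineType T := by
  have inj := hp.inj
  have e1 : 0 < T.a (p (i - 3)) (p (i - 3 + 1)) := hp.adj _ (by omega)
  have e2 : 0 < T.a (p (i - 3 + 1)) (p (i - 3 + 2)) := hp.adj _ (by omega)
  have e3 : 0 < T.a (p (i - 3 + 2)) (p i) := by
    have := hp.adj (i - 3 + 2) (by omega); rwa [show i - 3 + 2 + 1 = i by omega] at this
  have e4 : 0 < T.a (p i) (p (i + 1)) := hp.adj _ (by omega)
  have e5 : 0 < T.a (p (i + 1)) (p (i + 2)) := hp.adj _ (by omega)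
  have e6 : 0 < T.a (p (i + 2)) (p (i + 3)) := hp.adj _ hit
  have e7 : 0 < T.a x (p i) := by rwa [a_symm]
  refine Or.inr (Or.inr (Or.inr (Or.inr (Or.inr (Or.inr (Or.inr (Or.inr (Or.inr (Or.inr (Or.inl
    ⟨![p (i - 3), p (i - 3 + 1), p (i - 3 + 2), p i, p (i + 1), p (i + 2), p (i + 3), x],
      tight T _ ?_ (fun _ => hall _) e7E (by decide) (fun _ => 1) ?_ ?_ e7Y ?_ (by norm_num) ?_⟩))))))))))
  · intro a b e
    fin_cases a <;> fin_cases b <;> first
      | rfl | exact absurd e (hx _ (by omega)) | exact absurd e.symm (hx _ (by omega))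
      | (have := inj _ _ (by omega) (by omega) e; omega)
  · intro e; fin_cases e <;> assumption
  · intro e; fin_cases e <;> exact one_ww T (by assumption)
  · intro a; fin_cases a <;> simp [e7Y]
  · simp [Fin.sum_univ_succ, e7Y, e7E]; norm_num

lemma e8_case (hi : i = 2) (hit : 7 < t) (hx : ∀ l < t, p l ≠ x) (hix : 0 < T.a (p i) x) :
    AffineType T := by
  subst hi
  have inj := hp.inj
  have e1 : 0 < T.a (p 7) (p 6) := by rw [a_symm]; exact hp.adj _ (by omega)
  have e2 : 0 < T.a (p 6) (p 5) := by rw [a_symm]; exact hp.adj _ (by omega)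
  have e3 : 0 < T.a (p 5) (p 4) := by rw [a_symm]; exact hp.adj _ (by omega)
  have e4 : 0 < T.a (p 4) (p 3) := by rw [a_symm]; exact hp.adj _ (by omega)
  have e5 : 0 < T.a (p 3) (p 2) := by rw [a_symm]; exact hp.adj _ (by omega)
  have e6 : 0 < T.a (p 2) (p 1) := by rw [a_symm]; exact hp.adj _ (by omega)
  have e7 : 0 < T.a (p 1) (p 0) := by rw [a_symm]; exact hp.adj _ (by omega)
  have e8 : 0 < T.a x (p 2) := by rwa [a_symm]
  refine Or.inr (Or.inr (Or.inr (Or.inr (Or.inr (Or.inr (Or.inr (Or.inr (Or.inr (Or.inr (Or.inr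
    ⟨![p 7, p 6, p 5, p 4, p 3, p 2, p 1, p 0, x],
      tight T _ ?_ (fun _ => hall _) e8E (by decide) (fun _ => 1) ?_ ?_ e8Y ?_ (by norm_num) ?_⟩))))))))))
  · intro a b e
    fin_cases a <;> fin_cases b <;> first
      | rfl | exact absurd e (hx _ (by omega)) | exact absurd e.symm (hx _ (by omega))
      | (have := inj _ _ (by omega) (by omega) e; omega)
  · intro e; fin_cases e <;> assumption
  · intro e; fin_cases e <;> exact one_ww T (by assumption)
  · intro a; fin_cases a <;> simp [e8Y]
  · simp [Fin.sum_univ_succ, e8Y, e8E]; norm_num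

lemma dfork_star (hi : 1 ≤ i) (hit : i + 1 < t) (hx : ∀ l < t, p l ≠ x) {z : Fin n} (hz : ∀ l < t, p l ≠ z)
    (hxz : x ≠ z) (hix : 0 < T.a (p i) x) (hiz : 0 < T.a (p i) z) : AffineType T := by
  have inj := hp.inj
  have e1 : 0 < T.a x (p i) := by rwa [a_symm]
  have e2 : 0 < T.a z (p i) := by rwa [a_symm]
  have e3 : 0 < T.a (p i) (p (i - 1)) := by
    have := hp.adj (i - 1) (by omega)
    rwa [show i - 1 + 1 = i by omega, a_symm] at this
  have e4 : 0 < T.a (p i) (p (i + 1)) := hp.adj _ hit
  refine Or.inr (Or.inr (Or.inr (Or.inr (Or.inr (Or.inr (Or.inl (dfork_out (le_refl 5) (dfork_tight (le_refl 5)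
    ![x, z, p i, p (i - 1), p (i + 1)] ?_ (fun _ => hall _) ?_))))))))
  · intro a b e
    fin_cases a <;> fin_cases b <;> first
      | rfl | exact absurd e hxz | exact absurd e.symm hxz
      | exact absurd e (hx _ (by omega)) | exact absurd e.symm (hx _ (by omega))
      | exact absurd e (hz _ (by omega)) | exact absurd e.symm (hz _ (by omega))
      | (have := inj _ _ (by omega) (by omega) e; omega)
  · intro e; fin_cases e <;> assumption

lemma dfork_long {j : ℕ} (hi : 1 ≤ i) (hij : i < j) (hjt : j + 1 < t) (hx : ∀ l < t, p l ≠ x)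
    {z : Fin n} (hz : ∀ l < t, p l ≠ z) (hxz : x ≠ z) (hix : 0 < T.a (p i) x) (hjz : 0 < T.a (p j) z) :
    AffineType T := by
  let f : ℕ → Fin n := fun a =>
    if a = 0 then x else if a = 1 then p (i - 1) else if a ≤ j - i + 2 then p (i + a - 2)
    else if a = j - i + 3 then p (j + 1) else z
  have f0 : f 0 = x := rfl
  have f1 : f 1 = p (i - 1) := rfl
  have fm : ∀ a, 2 ≤ a → a ≤ j - i + 2 → f a = p (i + a - 2) := fun a h1 h2 => by
    simp only [f]; rw [if_neg (by omega), if_neg (by omega), if_pos h2]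
  have f3 : f (j - i + 3) = p (j + 1) := by
    simp only [f]; rw [if_neg (by omega), if_neg (by omega), if_neg (by omega), if_pos trivial]
  have f4 : f (j - i + 4) = z := by
    simp only [f]; rw [if_neg (by omega), if_neg (by omega), if_neg (by omega), if_neg (by omega)]
  refine Or.inr (Or.inr (Or.inr (Or.inr (Or.inr (Or.inr (Or.inl (dfork_out (by omega : 5 ≤ j - i + 5) (dfork_tight (by omega)
    (fun a : Fin (j - i + 5) => f a.val) ?_ (fun _ => hall _) ?_))))))))
  · intro a b e
    have := a.isLt; have := b.isLt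
    simp only [f] at e
    apply Fin.ext
    split_ifs at e <;> first
      | omega | exact absurd e hxz | exact absurd e.symm hxz
      | exact absurd e (hx _ (by omega)) | exact absurd e.symm (hx _ (by omega))
      | exact absurd e (hz _ (by omega)) | exact absurd e.symm (hz _ (by omega))
      | (have := hp.inj _ _ (by omega) (by omega) e; omega)
  · intro l
    have := l.isLt
    show 0 < T.a (f ((dforkE (j - i + 5)).src l).val) (f ((dforkE (j - i + 5)).tgt l).val)
    have hs : ((dforkE (j - i + 5)).src l).val = if l.val ≤ j - i + 2 then l.val else j - i + 2 := by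
      dsimp only [dforkE]; split_ifs <;> omega
    have ht : ((dforkE (j - i + 5)).tgt l).val = if l.val = 0 then 2 else l.val + 1 := by
      dsimp only [dforkE]; split_ifs <;> omega
    rcases (by omega : l.val = 0 ∨ l.val = 1 ∨ (2 ≤ l.val ∧ l.val + 1 ≤ j - i + 2) ∨ l.val = j - i + 2 ∨
        l.val = j - i + 3) with h | h | h | h | h
    · rw [hs, ht, if_pos (by omega), if_pos h, h, f0, fm 2 le_rfl (by omega),
        show i + 2 - 2 = i by omega, a_symm]
      exact hix
    · rw [hs, ht, if_pos (by omega), if_neg (by omega), h, f1, fm 2 le_rfl (by omega),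
        show i + 2 - 2 = i by omega]
      have := hp.adj (i - 1) (by omega)
      rwa [show i - 1 + 1 = i by omega] at this
    · rw [hs, ht, if_pos (by omega), if_neg (by omega), fm _ h.1 (by omega), fm _ (by omega) h.2,
        show i + (l.val + 1) - 2 = i + l.val - 2 + 1 by omega]
      exact hp.adj _ (by omega)
    · rw [hs, ht, if_pos (by omega), if_neg (by omega), h, fm _ (by omega) le_rfl, f3,
        show i + (j - i + 2) - 2 = j by omega]
      exact hp.adj _ (by omega)
    · rw [hs, ht, if_neg (by omega), if_neg (by omega), h, fm _ (by omega) le_rfl,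
        show i + (j - i + 2) - 2 = j by omega, show j - i + 3 + 1 = j - i + 4 by omega, f4]
      exact hjz

lemma fork_left {l : ℕ} (hli : l < i) (hit : i + 1 < t) (hx : ∀ l < t, p l ≠ x) (hix : 0 < T.a (p i) x)
    (hh : Heavy T (p l) (p (l + 1))) : AffineType T := by
  let v : Fin (i - l + 3) → Fin n := fun a =>
    if a.val ≤ i - l then p (l + a.val) else if a.val = i - l + 1 then p (i + 1) else x
  have := fork_tight (T := T) (N := i - l + 3) (by omega) v (by
      intro a b e
      have := a.isLt; have := b.isLt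
      simp only [v] at e
      apply Fin.ext
      split_ifs at e <;> first
        | omega
        | exact absurd e (hx _ (by omega)) | exact absurd e.symm (hx _ (by omega))
        | (have := hp.inj _ _ (by omega) (by omega) e; omega)) (fun _ => hall _) (fun a => by
      have := a.isLt
      dsimp only [forkE, v]
      split_ifs <;> first
        | omega
        | exact hp.adj (l + a.val) (by omega)
        | (rw [show l + a.val = i by omega]; exact hp.adj i hit)
        | (rw [show l + (i - l + 3 - 3) = i by omega]; exact hix)) (fun a ha => by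
      dsimp only [forkE, v]
      simp only [ha]
      split_ifs <;> first | omega | simpa using hh)
  rcases fork_out (by omega) this with h | h
  · exact Or.inr (Or.inr (Or.inr (Or.inr (Or.inl h))))
  · exact Or.inr (Or.inr (Or.inr (Or.inr (Or.inr (Or.inl h)))))

lemma fork_short (hi : 1 ≤ i) (hit : i + 1 < t) (hx : ∀ l < t, p l ≠ x) (hh : Heavy T x (p i)) :
    AffineType T := by
  have inj := hp.inj
  have e1 := hh.1
  have e2 : 0 < T.a (p i) (p (i - 1)) := by
    have := hp.adj (i - 1) (by omega)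
    rwa [show i - 1 + 1 = i by omega, a_symm] at this
  have e3 : 0 < T.a (p i) (p (i + 1)) := hp.adj _ hit
  have := fork_tight (T := T) (le_refl 4) ![x, p i, p (i - 1), p (i + 1)] (by
    intro a b e
    fin_cases a <;> fin_cases b <;> first
      | rfl | exact absurd e (hx _ (by omega)) | exact absurd e.symm (hx _ (by omega))
      | (have := inj _ _ (by omega) (by omega) e; omega)) (fun _ => hall _)
    (fun a => by fin_cases a <;> assumption)
    (fun a ha => by fin_cases a <;> first | exact hh | simp at ha)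
  rcases fork_out (by omega) this with h | h
  · exact Or.inr (Or.inr (Or.inr (Or.inr (Or.inl h))))
  · exact Or.inr (Or.inr (Or.inr (Or.inr (Or.inr (Or.inl h)))))

lemma offpath_unique (hit : i + 1 < t) (hi : 1 ≤ i) (hn : t + 1 ≤ n) (hx : ∀ l < t, p l ≠ x)
    (hix : 0 < T.a (p i) x) {l : ℕ} (hl : l < t) (h : T.a (p l) x ≠ 0) (hne : l ≠ i) : AffineType T := by
  have hlx : 0 < T.a (p l) x := lt_of_le_of_ne (T.offDiag_nonneg _ _ (hx l hl)) (Ne.symm h)
  have key : ∀ a b, a < b → b < t → 0 < T.a (p a) x → 0 < T.a (p b) x → AffineType T := by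
    intro a b hab hb ha hbx
    let f : ℕ → Fin n := fun k => if k ≤ b - a then p (a + k) else x
    refine Or.inl (Tight.cycle (v := fun k : Fin (b - a + 2) => f k.val)
      (cycle_tight (by omega) _ ?_ (fun _ => hall _) (fun k => ?_)))
    · intro c d e
      have := c.isLt; have := d.isLt
      apply Fin.ext
      simp only [f] at e
      split_ifs at e <;> first
        | omega
        | exact absurd e (hx _ (by omega)) | exact absurd e.symm (hx _ (by omega))
        | (have := hp.inj _ _ (by omega) (by omega) e; omega)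
    · have := k.isLt
      show 0 < T.a (f k.val) (f ((cycleE (b - a + 2)).tgt k).val)
      have ht : ((cycleE (b - a + 2)).tgt k).val = if k.val ≤ b - a then k.val + 1 else 0 := by
        dsimp only [cycleE]; split_ifs <;> omega
      have fp : ∀ l, l ≤ b - a → f l = p (a + l) := fun l hl => if_pos hl
      have fx : ∀ l, b - a < l → f l = x := fun l hl => if_neg (by omega)
      rcases (by omega : k.val < b - a ∨ k.val = b - a ∨ b - a < k.val) with h | h | h
      · rw [ht, if_pos (by omega), fp _ (by omega), fp _ (by omega)]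
        exact hp.adj (a + k.val) (by omega)
      · rw [ht, if_pos (by omega), h, fp _ le_rfl, fx _ (by omega), show a + (b - a) = b by omega]
        exact hbx
      · rw [ht, if_neg (by omega), fx _ h, fp 0 (by omega), Nat.add_zero, a_symm]
        exact ha
  rcases lt_or_gt_of_ne hne with h' | h'
  · exact key l i h' (by omega) hlx hix
  · exact key i l h' hl hix hlx

/-- a simple tree with three short arms is not of genus one -/
lemma fork_absurd (hi : 1 ≤ i) (hit : i + 1 < t) (hx : ∀ l < t, p l ≠ x)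
    (hz : ∀ a b, a + 2 ≤ b → b < t → T.a (p a) (p b) = 0)
    (hcov : ∀ y, (∀ l < t, p l ≠ y) → y = x) (honly : ∀ l < t, l ≠ i → T.a (p l) x = 0)
    (hs : ∀ l, l + 1 < t → Simple T (p l) (p (l + 1))) (hsx : Simple T (p i) x)
    (harm : i = 1 ∨ (i = 2 ∧ t ≤ 7)) : False := by
  have hne : ∀ a b, a < t → b < t → a ≠ b → p a ≠ p b := fun a b ha hb hab e => hab (hp.inj _ _ ha hb e)
  have hoff : ∀ k, k < t → k ≠ i → ∀ y, (∀ l < t, p l ≠ y) → T.a (p k) y = 0 := fun k hk hki y hy => by
    rw [hcov y hy]; exact honly k hk hki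
  obtain ⟨-, hmc⟩ := prefix_simple hall hp hz (L := i) (by omega) (fun k hk => hoff k (by omega) (by omega))
    (fun l hl => hs l (by omega)) i le_rfl
  obtain ⟨-, hml⟩ := prefix_simple hall hp hz (L := i) (by omega) (fun k hk => hoff k (by omega) (by omega))
    (fun l hl => hs l (by omega)) (i - 1) (by omega)
  have hr := prefix_simple hall hp.rev (L := t - 1 - i) (fun a b hab hb => by rw [a_symm]; exact hz _ _ (by omega) (by omega))
    (by omega) (fun k hk y hy => hoff _ (by omega) (by omega) y (fun l hl => by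
      have := hy (t - 1 - l) (by omega); rwa [show t - 1 - (t - 1 - l) = l by omega] at this))
    (fun l hl => by
      have := (hs (t - 1 - (l + 1)) (by omega)).symm T
      rwa [show t - 1 - (l + 1) + 1 = t - 1 - l by omega] at this)
  obtain ⟨-, hrc⟩ := hr (t - 1 - i) le_rfl
  obtain ⟨-, hrn⟩ := hr (t - 1 - i - 1) (by omega)
  simp only [show t - 1 - (t - 1 - i) = i by omega, show t - 1 - (t - 1 - i - 1) = i + 1 by omega,
    Nat.sub_zero] at hrc hrn
  have rx := row_eq hall x {p i} (by simpa using (hx i (by omega)).symm) (fun j hj hjS => by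
    simp only [mem_singleton] at hjS
    by_cases hc : ∃ l < t, p l = j
    · obtain ⟨l, hl, rfl⟩ := hc
      rw [a_symm]; exact honly l hl (fun e => hjS (by rw [e]))
    · push Not at hc; exact absurd (hcov j hc) hj)
  have rc := row_eq hall (p i) {p (i - 1), p (i + 1), x}
    (by simp [hne i (i - 1) (by omega) (by omega) (by omega), hne i (i + 1) (by omega) (by omega) (by omega), hx i (by omega)])
    (fun j hj hjS => by
      simp only [mem_insert, mem_singleton, not_or] at hjS
      by_cases hc : ∃ l < t, p l = j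
      · obtain ⟨l, hl, rfl⟩ := hc
        rcases (by omega : l + 2 ≤ i ∨ l = i - 1 ∨ l = i ∨ l = i + 1 ∨ i + 2 ≤ l) with h | rfl | rfl | rfl | h
        · rw [a_symm]; exact hz l i h (by omega)
        · exact absurd rfl hjS.1
        · exact absurd rfl hj
        · exact absurd rfl hjS.2.1
        · exact hz i l h hl
      · push Not at hc; exact absurd (hcov j hc) hjS.2.2)
  have hsl : Simple T (p i) (p (i - 1)) := by
    have := (hs (i - 1) (by omega)).symm T
    rwa [show i - 1 + 1 = i by omega] at this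
  rw [sum_singleton, a_symm, hsx.1, hsx.2] at rx
  rw [sum_insert (by simp [hne (i - 1) (i + 1) (by omega) (by omega) (by omega), hx (i - 1) (by omega)]),
    sum_pair (hx (i + 1) (by omega)), hsl.1, (hs i hit).1, hsx.1] at rc
  have hW := T.w_pos (p i)
  have h0 := T.m_pos (p 0)
  have he := T.m_pos (p (t - 1))
  have f1 : T.m (p i) = 2 * T.m x := mul_left_cancel₀ hW.ne' (by linarith)
  have f2 : T.m (p (i - 1)) + T.m (p (i + 1)) + T.m x = 2 * T.m (p i) := mul_left_cancel₀ hW.ne' (by linarith)
  have c1 : ((t - 1 - i : ℕ) : ℤ) = (t : ℤ) - 1 - i := by omega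
  have c2 : ((t - 1 - i - 1 : ℕ) : ℤ) = (t : ℤ) - 1 - i - 1 := by omega
  have c3 : ((i - 1 : ℕ) : ℤ) = (i : ℤ) - 1 := by omega
  rw [c1] at hrc; rw [c2] at hrn; rw [c3] at hml
  rw [hml, hrn] at f2
  rcases harm with rfl | ⟨rfl, ht⟩
  · norm_num at hmc f2 hrc
    nlinarith
  · norm_num at hmc f2 hrc
    interval_cases t <;> norm_num at hrc f2 <;> omega

lemma fork_case (hmax : ∀ s q, IsPath T s q → s ≤ t)
    (hz : ∀ a b, a + 2 ≤ b → b < t → T.a (p a) (p b) = 0)
    (hi : i < t) (hx : ∀ l < t, p l ≠ x) (hix : 0 < T.a (p i) x) : AffineType T := by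
  have hi1 : 1 ≤ i := by
    by_contra hc
    obtain rfl : i = 0 := by omega
    have := hmax _ _ (hp.cons hx (by rwa [a_symm]))
    omega
  have hit : i + 1 < t := by
    by_contra hc
    obtain rfl : i = t - 1 := by omega
    have := hmax _ _ (hp.rev.cons (x := x) (fun l hl => hx _ (by omega)) (by simpa [a_symm] using hix))
    omega
  have hn : t + 1 ≤ n := by
    have := Fintype.card_le_of_injective (fun k : Fin (t + 1) => if h : k.val < t then p k.val else x) (by
      intro a b e
      have := a.isLt; have := b.isLt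
      apply Fin.ext
      simp only at e
      split_ifs at e with h1 h2 <;> first
        | omega
        | exact absurd e (hx _ (by omega)) | exact absurd e.symm (hx _ (by omega))
        | (have := hp.inj _ _ (by omega) (by omega) e; omega))
    simpa using this
  by_cases ho : ∃ l < t, l ≠ i ∧ T.a (p l) x ≠ 0
  · obtain ⟨l, hl, hne, h⟩ := ho
    exact offpath_unique hall hp hit hi1 hn hx hix hl h hne
  push Not at ho
  by_cases hy : ∃ y, (∀ l < t, p l ≠ y) ∧ x ≠ y ∧ T.a x y ≠ 0
  · obtain ⟨y, hy1, hxy, hy3⟩ := hy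
    have hyx : 0 < T.a x y := lt_of_le_of_ne (T.offDiag_nonneg _ _ hxy) (Ne.symm hy3)
    -- otherwise a longer path runs through `y, x, p i`
    have ext2 : ∀ q : ℕ → Fin n, IsPath T t q → (∀ l < t, q l ≠ x) → (∀ l < t, q l ≠ y) →
        ∀ k, k < t → 0 < T.a (q k) x → 2 ≤ k := by
      intro q hq hqx hqy k hk hkx
      by_contra hc
      have hsub : IsPath T (t - k) (fun l => q (k + l)) :=
        ⟨fun a b ha hb e => by have := hq.inj _ _ (by omega) (by omega) e; omega,
          fun a ha => hq.adj _ (by omega)⟩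
      have h1 := hsub.cons (x := x) (fun l hl => hqx _ (by omega)) (by rwa [Nat.add_zero, a_symm])
      have h2 := h1.cons (x := y) (fun l hl => by
        split_ifs
        · exact hxy
        · exact hqy _ (by omega)) (by simpa [a_symm] using hyx)
      have := hmax _ _ h2
      omega
    have hi2 := ext2 p hp hx hy1 i hi hix
    have hi3 := ext2 _ hp.rev (fun l hl => hx _ (by omega)) (fun l hl => hy1 _ (by omega)) (t - 1 - i) (by omega)
      (by rwa [show t - 1 - (t - 1 - i) = i by omega])
    exact e6_case hall hp hi2 (by omega) hx hy1 hxy hix hyx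
  push Not at hy
  by_cases hz' : ∃ z j, j < t ∧ (∀ l < t, p l ≠ z) ∧ x ≠ z ∧ T.a (p j) z ≠ 0
  · obtain ⟨z, j, hj, hz1, hxz, hjz'⟩ := hz'
    have hjz : 0 < T.a (p j) z := lt_of_le_of_ne (T.offDiag_nonneg _ _ (hz1 j hj)) (Ne.symm hjz')
    have hj1 : 1 ≤ j := by
      by_contra hc
      obtain rfl : j = 0 := by omega
      have := hmax _ _ (hp.cons hz1 (by rwa [a_symm]))
      omega
    have hjt : j + 1 < t := by
      by_contra hc
      obtain rfl : j = t - 1 := by omega
      have := hmax _ _ (hp.rev.cons (x := z) (fun l hl => hz1 _ (by omega)) (by simpa [a_symm] using hjz))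
      omega
    rcases lt_trichotomy i j with h | h | h
    · exact dfork_long hall hp hi1 h hjt hx hz1 hxz hix hjz
    · subst h; exact dfork_star hall hp hi1 hit hx hz1 hxz hix hjz
    · exact dfork_long hall hp hj1 h hit hz1 hx hxz.symm hjz hix
  push Not at hz'
  have hcov : ∀ y, (∀ l < t, p l ≠ y) → y = x := by
    intro y hy1
    by_contra hne
    classical
    obtain ⟨u, hu, w, hw, huw⟩ := T.connected (insert x (pathSet t p)) ⟨x, mem_insert_self _ _⟩ (fun e => by
      have : y ∈ insert x (pathSet t p) := by rw [e]; exact mem_univ _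
      rcases mem_insert.1 this with h | h
      · exact hne h
      · obtain ⟨l, hl, e'⟩ := mem_pathSet.1 h; exact hy1 l hl e')
    simp only [mem_insert, not_or, mem_pathSet, not_exists, not_and] at hu hw
    rcases hu with rfl | ⟨l, hl, rfl⟩
    · exact huw (hy w hw.2 (Ne.symm hw.1))
    · exact huw (hz' w l hl hw.2 (Ne.symm hw.1))
  by_cases hh : Heavy T x (p i)
  · exact fork_short hall hp hi1 hit hx hh
  by_cases hh' : ∃ l, l + 1 < t ∧ Heavy T (p l) (p (l + 1))
  · obtain ⟨l, hl, hhl⟩ := hh'
    by_cases hli : l < i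
    · exact fork_left hall hp hli hit hx hix hhl
    · refine fork_left hall hp.rev (i := t - 1 - i) (l := t - 2 - l) (by omega) (by omega)
        (fun k hk => hx _ (by omega)) (by rwa [show t - 1 - (t - 1 - i) = i by omega]) ?_
      have := hhl.symm T
      simpa only [show t - 1 - (t - 2 - l) = l + 1 by omega, show t - 1 - (t - 2 - l + 1) = l by omega] using this
  push Not at hh'
  have hs : ∀ l, l + 1 < t → Simple T (p l) (p (l + 1)) := fun l hl =>
    (simple_or_heavy T (by omega) (hall _) (hall _) (hp.adj l hl)).resolve_right (hh' l hl)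
  have hsx : Simple T (p i) x :=
    (simple_or_heavy T (by omega) (hall _) (hall _) hix).resolve_right (fun h => hh (h.symm T))
  by_cases h33 : 3 ≤ i ∧ i + 3 < t
  · exact e7_case hall hp h33.1 h33.2 hx hix
  by_cases h25 : i = 2 ∧ 7 < t
  · exact e8_case hall hp h25.1 h25.2 hx hix
  by_cases h52 : i + 3 = t ∧ 7 < t
  · exact e8_case hall hp.rev (i := t - 1 - i) (by omega) h52.2 (fun k hk => hx _ (by omega))
      (by rwa [show t - 1 - (t - 1 - i) = i by omega])
  exfalso
  by_cases hA : i = 1 ∨ (i = 2 ∧ t ≤ 7)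
  · exact fork_absurd hall hp hi1 hit hx hz hcov ho hs hsx hA
  · refine fork_absurd hall hp.rev (i := t - 1 - i) (x := x) (by omega) (by omega) (fun k hk => hx _ (by omega))
      (fun a b hab hb => by rw [a_symm]; exact hz _ _ (by omega) (by omega))
      (fun y hy1 => hcov y (fun l hl => by
        have := hy1 (t - 1 - l) (by omega); rwa [show t - 1 - (t - 1 - l) = l by omega] at this))
      (fun l hl hne => ho _ (by omega) (by omega))
      (fun l hl => by
        have := (hs (t - 1 - (l + 1)) (by omega)).symm T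
        rwa [show t - 1 - (l + 1) + 1 = t - 1 - l by omega] at this)
      (by rwa [show t - 1 - (t - 1 - i) = i by omega]) (by omega)

omit hp in
/-- The classification: on at least three indices, if all indices are (-2)-indices then the type is
one of the twelve affine kinds. -/
theorem affineType_of_minusTwo (hn : 3 ≤ n) : AffineType T := by
  classical
  obtain ⟨t, p, hp, ht, hmax⟩ := exists_longest (T := T) hn
  by_cases hc : ∃ a b, a + 2 ≤ b ∧ b < t ∧ T.a (p a) (p b) ≠ 0
  · obtain ⟨a, b, hab, hb, h⟩ := hc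
    exact chord_case hall hp hab hb h
  push Not at hc
  by_cases hcov : ∀ x, ∃ l < t, p l = x
  · exact chain_case hall hp ht hcov hc
  push Not at hcov
  obtain ⟨y, hy⟩ := hcov
  obtain ⟨u, hu, x, hx, hux⟩ := T.connected (pathSet t p) ⟨p 0, mem_pathSet.2 ⟨0, by omega, rfl⟩⟩ (fun e => by
    obtain ⟨l, hl, e'⟩ := mem_pathSet.1 (e ▸ mem_univ y : y ∈ pathSet t p)
    exact hy l hl e')
  obtain ⟨i, hi, rfl⟩ := mem_pathSet.1 hu
  have hx' : ∀ l < t, p l ≠ x := fun l hl e => hx (mem_pathSet.2 ⟨l, hl, e⟩)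
  exact fork_case hall hp hmax hc hi hx' (lt_of_le_of_ne (T.offDiag_nonneg _ _ (hx' i hi)) (Ne.symm hux))

end

end Groth.Agent.NumTypeLib
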