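import Groth.Agent.NumTypeLib.Sub

/-!
# Forbidden configurations of (-2)-indices
-/

namespace Groth.Agent.NumTypeLib

open Finset Real

variable {n : ℕ} (T : Models.NumericalType n)

lemma row_bound {i : Fin n} (hi : T.IsMinusTwo i) (S : Finset (Fin n)) (hS : i ∉ S) :
    ∑ j ∈ S, T.a i j * T.m j ≤ 2 * T.w i * T.m i := by
  have h := sum_row_erase T i
  rw [hi.2] at h
  have := sum_le_sum_of_subset_of_nonneg (f := fun j => T.a i j * T.m j) (s := S) (t := univ.erase i)
    (fun j hj => mem_erase.2 ⟨fun e => hS (e ▸ hj), mem_univ j⟩)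
    (fun j hj _ => mul_nonneg (T.offDiag_nonneg _ _ (ne_of_mem_erase hj).symm) (T.m_pos j).le)
  linarith

lemma row1 {i j : Fin n} (hi : T.IsMinusTwo i) (hij : i ≠ j) :
    T.a i j * T.m j ≤ 2 * T.w i * T.m i := by
  simpa using row_bound T hi {j} (by simpa using hij)

lemma row2 {i j k : Fin n} (hi : T.IsMinusTwo i) (hij : i ≠ j) (hik : i ≠ k) (hjk : j ≠ k) :
    T.a i j * T.m j + T.a i k * T.m k ≤ 2 * T.w i * T.m i := by
  simpa [sum_pair hjk] using row_bound T hi {j, k} (by simp [hij, hik])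

lemma row3 {i j k l : Fin n} (hi : T.IsMinusTwo i) (hij : i ≠ j) (hik : i ≠ k) (hil : i ≠ l)
    (hjk : j ≠ k) (hjl : j ≠ l) (hkl : k ≠ l) :
    T.a i j * T.m j + T.a i k * T.m k + T.a i l * T.m l ≤ 2 * T.w i * T.m i := by
  have h := row_bound T hi {j, k, l} (by simp [hij, hik, hil])
  rw [sum_insert (by simp [hjk, hjl]), sum_pair hkl, ← add_assoc] at h
  exact h

/-- `w j` and `a i j` are twice `w i` -/
def Up (i j : Fin n) : Prop := T.w j = 2 * T.w i ∧ T.a i j = 2 * T.w i

lemma Up.heavy {i j : Fin n} (h : Up T i j) : Heavy T i j := by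
  have := T.w_pos i
  exact ⟨by rw [h.2]; omega, by rw [h.2, h.1]; nlinarith⟩

lemma Up.heavy' {i j : Fin n} (h : Up T i j) : Heavy T j i := (h.heavy T).symm

/-- a triple edge has no neighbouring edge -/
theorem triple_adj (hn : 3 < n) {p q r : Fin n} (hp : T.IsMinusTwo p) (hq : T.IsMinusTwo q)
    (hr : T.IsMinusTwo r) (hpr : p ≠ r) (h1 : 0 < T.a p q) (h2 : 0 < T.a q r)
    (h3 : 3 * (T.w p * T.w q) ≤ T.a p q ^ 2) : False := by
  have := adj_ne T h1
  have := adj_ne T h2
  refine no_test T ![p, q, r] ?_ (by simpa using hn) ?_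
    (⟨![0, 1], ![1, 2]⟩ : Edges (Fin 3) (Fin 2)) (by decide) ![3, 1] ?_ ?_ ![√3, 2, 1] ?_ 1
    (by simp) ?_
  · intro a b hab; fin_cases a <;> fin_cases b <;> simp_all
  · intro a; fin_cases a <;> assumption
  · intro e; fin_cases e <;> simpa
  · intro e
    fin_cases e
    · simpa using h3
    · simpa using one_ww T h2
  · intro a; fin_cases a <;> simp
  · have : √(3:ℝ) * √3 = 3 := Real.mul_self_sqrt (by norm_num)
    simp [Fin.sum_univ_three, Fin.sum_univ_two]
    nlinarith

theorem edge2 (hn : 3 < n) {i j k : Fin n} (hi : T.IsMinusTwo i) (hj : T.IsMinusTwo j)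
    (hk : T.IsMinusTwo k) (hik : i ≠ k) (hjk : j ≠ k) (hij : 0 < T.a i j)
    (hadj : 0 < T.a i k ∨ 0 < T.a j k) : Simple T i j ∨ Up T i j ∨ Up T j i := by
  have hwi := T.w_pos i
  have hwj := T.w_pos j
  have hno : ¬ 3 * (T.w i * T.w j) ≤ T.a i j ^ 2 := fun h => by
    rcases hadj with hh | hh
    · exact triple_adj T hn hj hi hk hjk (by rwa [a_symm]) hh (by rwa [a_symm T j i, mul_comm (T.w j)])
    · exact triple_adj T hn hi hj hk hik hij hh h
  rcases edge_split T (by omega) hi hj hij with h | ⟨c, rfl | rfl, ⟨h1, h2⟩ | ⟨h1, h2⟩⟩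
  · exact Or.inl h
  · exact Or.inr (Or.inl ⟨h1, h2⟩)
  · exact Or.inr (Or.inr ⟨h1, by rwa [a_symm]⟩)
  · exact absurd (by rw [h1, h2]; nlinarith) hno
  · exact absurd (by rw [h1, h2]; nlinarith) hno

/-- the completed F4 configuration is impossible -/
theorem middle_heavy (v : Fin 5 → Fin n) (hv : Function.Injective v) (hn : 5 < n)
    (htwo : ∀ i, T.IsMinusTwo (v i)) (h01 : 0 < T.a (v 0) (v 1)) (h12 : 0 < T.a (v 1) (v 2))
    (h34 : 0 < T.a (v 3) (v 4)) (h23 : Heavy T (v 2) (v 3)) : False := by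
  refine no_test T v hv (by simpa using hn) htwo (⟨![0, 1, 2, 3], ![1, 2, 3, 4]⟩ : Edges (Fin 5) (Fin 4))
    (by decide) ![1, 1, 2, 1] ?_ ?_ ![1, 2, 3, 2 * √2, √2] ?_ 0 (by simp) ?_
  · intro e; fin_cases e <;> first | exact h01 | exact h12 | exact h23.1 | exact h34
  · intro e
    fin_cases e
    · exact one_ww T h01
    · exact one_ww T h12
    · exact h23.2
    · exact one_ww T h34
  · intro a; fin_cases a <;> simp
  · have : √(2:ℝ) * √2 = 2 := Real.mul_self_sqrt (by norm_num)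
    simp [Fin.sum_univ_five, Fin.sum_univ_four]
    nlinarith

/-- a path with a fork at each end is impossible -/
theorem double_fork (k : ℕ) (v : (Bool ⊕ Bool) ⊕ Fin (k + 1) → Fin n) (hv : Function.Injective v)
    (hcard : k + 5 < n) (htwo : ∀ i, T.IsMinusTwo (v i))
    (hl : ∀ b, 0 < T.a (v (.inl (.inl b))) (v (.inr 0)))
    (hr : ∀ b, 0 < T.a (v (.inl (.inr b))) (v (.inr (Fin.last k))))
    (hp : ∀ i : Fin k, 0 < T.a (v (.inr i.castSucc)) (v (.inr i.succ))) : False := by
  refine no_test T v hv (by simp only [Fintype.card_sum, Fintype.card_bool, Fintype.card_fin]; omega) htwo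
    (⟨Sum.elim .inl (fun i => .inr i.castSucc),
      Sum.elim (Sum.elim (fun _ => .inr 0) (fun _ => .inr (Fin.last k))) (fun i => .inr i.succ)⟩ :
        Edges _ ((Bool ⊕ Bool) ⊕ Fin k)) ⟨?_, ?_⟩ (fun _ => 1) ?_ ?_
    (Sum.elim (fun _ => 1) (fun _ => 2)) ?_ (.inr 0) (by simp) ?_
  · rintro ((b | b) | i) ((b' | b') | i') h1 h2 <;>
      simp only [Sum.elim_inl, Sum.elim_inr, reduceCtorEq, Sum.inr.injEq, Sum.inl.injEq] at h1 h2 ⊢
    all_goals first | exact h1 | exact Fin.castSucc_injective _ h1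
  · rintro ((b | b) | i) ((b' | b') | i') h1 h2 <;>
      simp only [Sum.elim_inl, Sum.elim_inr, reduceCtorEq, Sum.inr.injEq, Sum.inl.injEq] at h1 h2
    have h3 := congrArg Fin.val h1
    have h4 := congrArg Fin.val h2
    simp only [Fin.val_castSucc, Fin.val_succ] at h3 h4
    omega
  · rintro ((b | b) | i)
    · exact hl b
    · exact hr b
    · exact hp i
  · rintro ((b | b) | i)
    · exact one_ww T (hl b)
    · exact one_ww T (hr b)
    · exact one_ww T (hp i)
  · rintro (b | i) <;> simp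
  · simp
    linarith

/-- a simple tree: all edges are simple, the other pairs orthogonal -/
theorem simple_of_fork {ι : Type*} (v : ι → Fin n) (hv : Function.Injective v)
    (htwo : ∀ i, T.IsMinusTwo (v i)) (k : ℕ) (hn : k + 4 < n) (idx : Bool ⊕ Fin (k + 2) → ι)
    (hidx : Function.Injective idx)
    (hl : ∀ b, 0 < T.a (v (idx (.inl b))) (v (idx (.inr 0))))
    (hp : ∀ i : Fin (k + 1), 0 < T.a (v (idx (.inr i.castSucc))) (v (idx (.inr i.succ))))
    {i j : ι} (hi : idx (.inr (Fin.last k).castSucc) = i) (hj : idx (.inr (Fin.last (k + 1))) = j)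
    (hpos : 0 < T.a (v i) (v j)) : Simple T (v i) (v j) :=
  (simple_or_heavy T (by omega) (htwo i) (htwo j) hpos).resolve_right fun h =>
    fork_heavy T k (v ∘ idx) (hv.comp hidx) hn (fun x => htwo _) hl hp (by
      simpa only [Function.comp_apply, hi, hj] using h)

end Groth.Agent.NumTypeLib
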