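import Groth.Agent.NumTypeLib.Span
import Mathlib.Data.Fin.Rev
import Mathlib.Data.Fintype.EquivFin

/-!
# The infinite families of minimal numerical types of genus one
-/

namespace Groth.Agent.NumTypeLib

open Finset

/-- one of the infinite families of minimal types of genus one -/
def CycleType {n : ℕ} (T : Models.NumericalType n) : Prop :=
  ∃ (σ : Equiv.Perm (Fin n)) (m w : ℤ),
    (∀ i : Fin n, T.m (σ i) = m) ∧
        (∀ i : Fin n, T.w (σ i) = w) ∧
        (∀ i j : Fin n, i.val < j.val → j.val = i.val + 1 → T.a (σ i) (σ j) = w) ∧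
        (∀ i j : Fin n, i.val < j.val → i.val = 0 ∧ j.val + 1 = n → T.a (σ i) (σ j) = w) ∧
        (∀ i j : Fin n, i.val < j.val → ¬ (j.val = i.val + 1) → ¬ (i.val = 0 ∧ j.val + 1 = n) → T.a (σ i) (σ j) = 0)

/-- one of the infinite families of minimal types of genus one -/
def ChainUU {n : ℕ} (T : Models.NumericalType n) : Prop :=
  ∃ (σ : Equiv.Perm (Fin n)) (m w : ℤ),
    (∀ i : Fin n, i.val + 1 < n → T.m (σ i) = 2 * m) ∧
        (∀ i : Fin n, i.val + 1 = n → T.m (σ i) = m) ∧
        (∀ i : Fin n, i.val = 0 → T.w (σ i) = w) ∧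
        (∀ i : Fin n, 0 < i.val ∧ i.val + 1 < n → T.w (σ i) = 2 * w) ∧
        (∀ i : Fin n, i.val + 1 = n → T.w (σ i) = 4 * w) ∧
        (∀ i j : Fin n, i.val < j.val → j.val = i.val + 1 ∧ j.val + 1 < n → T.a (σ i) (σ j) = 2 * w) ∧
        (∀ i j : Fin n, i.val < j.val → j.val = i.val + 1 ∧ j.val + 1 = n → T.a (σ i) (σ j) = 4 * w) ∧
        (∀ i j : Fin n, i.val < j.val → ¬ (j.val = i.val + 1 ∧ j.val + 1 < n) → ¬ (j.val = i.val + 1 ∧ j.val + 1 = n) → T.a (σ i) (σ j) = 0)

/-- one of the infinite families of minimal types of genus one -/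
def ChainUD {n : ℕ} (T : Models.NumericalType n) : Prop :=
  ∃ (σ : Equiv.Perm (Fin n)) (m w : ℤ),
    (∀ i : Fin n, T.m (σ i) = m) ∧
        (∀ i : Fin n, i.val = 0 → T.w (σ i) = w) ∧
        (∀ i : Fin n, 0 < i.val ∧ i.val + 1 < n → T.w (σ i) = 2 * w) ∧
        (∀ i : Fin n, i.val + 1 = n → T.w (σ i) = w) ∧
        (∀ i j : Fin n, i.val < j.val → j.val = i.val + 1 → T.a (σ i) (σ j) = 2 * w) ∧
        (∀ i j : Fin n, i.val < j.val → ¬ (j.val = i.val + 1) → T.a (σ i) (σ j) = 0)

/-- one of the infinite families of minimal types of genus one -/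
def ChainDU {n : ℕ} (T : Models.NumericalType n) : Prop :=
  ∃ (σ : Equiv.Perm (Fin n)) (m w : ℤ),
    (∀ i : Fin n, i.val = 0 → T.m (σ i) = m) ∧
        (∀ i : Fin n, 0 < i.val ∧ i.val + 1 < n → T.m (σ i) = 2 * m) ∧
        (∀ i : Fin n, i.val + 1 = n → T.m (σ i) = m) ∧
        (∀ i : Fin n, i.val = 0 → T.w (σ i) = 2 * w) ∧
        (∀ i : Fin n, 0 < i.val ∧ i.val + 1 < n → T.w (σ i) = w) ∧
        (∀ i : Fin n, i.val + 1 = n → T.w (σ i) = 2 * w) ∧
        (∀ i j : Fin n, i.val < j.val → i.val = 0 ∧ j.val = 1 → T.a (σ i) (σ j) = 2 * w) ∧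
        (∀ i j : Fin n, i.val < j.val → j.val = i.val + 1 ∧ 1 ≤ i.val ∧ j.val + 2 ≤ n → T.a (σ i) (σ j) = w) ∧
        (∀ i j : Fin n, i.val < j.val → j.val = i.val + 1 ∧ j.val + 1 = n → T.a (σ i) (σ j) = 2 * w) ∧
        (∀ i j : Fin n, i.val < j.val → ¬ (i.val = 0 ∧ j.val = 1) → ¬ (j.val = i.val + 1 ∧ 1 ≤ i.val ∧ j.val + 2 ≤ n) → ¬ (j.val = i.val + 1 ∧ j.val + 1 = n) → T.a (σ i) (σ j) = 0)

/-- one of the infinite families of minimal types of genus one -/
def ForkD {n : ℕ} (T : Models.NumericalType n) : Prop :=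
  ∃ (σ : Equiv.Perm (Fin n)) (m w : ℤ),
    (∀ i : Fin n, i.val = 0 → T.m (σ i) = m) ∧
        (∀ i : Fin n, 1 ≤ i.val ∧ i.val + 2 < n → T.m (σ i) = 2 * m) ∧
        (∀ i : Fin n, n ≤ i.val + 2 → T.m (σ i) = m) ∧
        (∀ i : Fin n, i.val = 0 → T.w (σ i) = 2 * w) ∧
        (∀ i : Fin n, 0 < i.val → T.w (σ i) = w) ∧
        (∀ i j : Fin n, i.val < j.val → i.val = 0 ∧ j.val = 1 → T.a (σ i) (σ j) = 2 * w) ∧
        (∀ i j : Fin n, i.val < j.val → j.val = i.val + 1 ∧ 1 ≤ i.val ∧ j.val + 2 ≤ n → T.a (σ i) (σ j) = w) ∧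
        (∀ i j : Fin n, i.val < j.val → i.val + 3 = n ∧ j.val + 1 = n → T.a (σ i) (σ j) = w) ∧
        (∀ i j : Fin n, i.val < j.val → ¬ (i.val = 0 ∧ j.val = 1) → ¬ (j.val = i.val + 1 ∧ 1 ≤ i.val ∧ j.val + 2 ≤ n) → ¬ (i.val + 3 = n ∧ j.val + 1 = n) → T.a (σ i) (σ j) = 0)

/-- one of the infinite families of minimal types of genus one -/
def ForkU {n : ℕ} (T : Models.NumericalType n) : Prop :=
  ∃ (σ : Equiv.Perm (Fin n)) (m w : ℤ),
    (∀ i : Fin n, i.val + 2 < n → T.m (σ i) = 2 * m) ∧
        (∀ i : Fin n, n ≤ i.val + 2 → T.m (σ i) = m) ∧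
        (∀ i : Fin n, i.val = 0 → T.w (σ i) = w) ∧
        (∀ i : Fin n, 0 < i.val → T.w (σ i) = 2 * w) ∧
        (∀ i j : Fin n, i.val < j.val → j.val = i.val + 1 ∧ j.val + 2 ≤ n → T.a (σ i) (σ j) = 2 * w) ∧
        (∀ i j : Fin n, i.val < j.val → i.val + 3 = n ∧ j.val + 1 = n → T.a (σ i) (σ j) = 2 * w) ∧
        (∀ i j : Fin n, i.val < j.val → ¬ (j.val = i.val + 1 ∧ j.val + 2 ≤ n) → ¬ (i.val + 3 = n ∧ j.val + 1 = n) → T.a (σ i) (σ j) = 0)

/-- one of the infinite families of minimal types of genus one -/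
def DForkType {n : ℕ} (T : Models.NumericalType n) : Prop :=
  ∃ (σ : Equiv.Perm (Fin n)) (m w : ℤ),
    (∀ i : Fin n, i.val ≤ 1 → T.m (σ i) = m) ∧
        (∀ i : Fin n, 2 ≤ i.val ∧ i.val + 2 < n → T.m (σ i) = 2 * m) ∧
        (∀ i : Fin n, n ≤ i.val + 2 → T.m (σ i) = m) ∧
        (∀ i : Fin n, T.w (σ i) = w) ∧
        (∀ i j : Fin n, i.val < j.val → i.val = 0 ∧ j.val = 2 → T.a (σ i) (σ j) = w) ∧
        (∀ i j : Fin n, i.val < j.val → i.val = 1 ∧ j.val = 2 → T.a (σ i) (σ j) = w) ∧
        (∀ i j : Fin n, i.val < j.val → j.val = i.val + 1 ∧ 2 ≤ i.val ∧ j.val + 2 ≤ n → T.a (σ i) (σ j) = w) ∧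
        (∀ i j : Fin n, i.val < j.val → i.val + 3 = n ∧ j.val + 1 = n → T.a (σ i) (σ j) = w) ∧
        (∀ i j : Fin n, i.val < j.val → ¬ (i.val = 0 ∧ j.val = 2) → ¬ (i.val = 1 ∧ j.val = 2) → ¬ (j.val = i.val + 1 ∧ 2 ≤ i.val ∧ j.val + 2 ≤ n) → ¬ (i.val + 3 = n ∧ j.val + 1 = n) → T.a (σ i) (σ j) = 0)

variable {n : ℕ} {T : Models.NumericalType n}

lemma simple_of_sq {i j : Fin n} (h : 0 < T.a i j)
    (hsq : T.a i j ^ 2 = ((1 : ℕ) : ℤ) * (T.w i * T.w j)) : Simple T i j := by
  have h1 := w_le_of_pos T h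
  have h2 := w_le_of_pos' T h
  have hi := T.w_pos i
  have hj := T.w_pos j
  unfold Simple
  rw [Nat.cast_one, one_mul] at hsq
  constructor <;> nlinarith

lemma mult_of_sq {k : ℕ} (hk : Nat.Prime k) {i j : Fin n} (h : 0 < T.a i j)
    (hsq : T.a i j ^ 2 = (k : ℤ) * (T.w i * T.w j)) :
    (T.w j = k * T.w i ∧ T.a i j = k * T.w i) ∨ (T.w i = k * T.w j ∧ T.a i j = k * T.w j) := by
  obtain ⟨p, hp⟩ := T.w_dvd i j
  obtain ⟨q, hq⟩ := T.w_dvd j i
  rw [a_symm T j i] at hq
  have hwi := T.w_pos i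
  have hwj := T.w_pos j
  have hp0 : 0 < p := (pos_iff_pos_of_mul_pos (hp ▸ h)).1 hwi
  have hq0 : 0 < q := (pos_iff_pos_of_mul_pos (hq ▸ h)).1 hwj
  have hpq : p * q = k := by
    have h2 : (p * q) * (T.w i * T.w j) = (k : ℤ) * (T.w i * T.w j) := by
      rw [← hsq, sq]; nth_rewrite 2 [hq]; rw [hp]; ring
    exact mul_right_cancel₀ (mul_pos hwi hwj).ne' h2
  lift p to ℕ using hp0.le
  lift q to ℕ using hq0.le
  have hpq' : p * q = k := by exact_mod_cast hpq
  rcases (Nat.dvd_prime hk).1 (Dvd.intro q hpq') with rfl | rfl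
  · rw [one_mul] at hpq'
    subst hpq'
    push_cast at hp
    right
    constructor
    · rw [← mul_one (T.w i), ← hp, hq]; ring
    · rw [hq]; ring
  · have : q = 1 := (Nat.mul_eq_left hk.ne_zero).1 hpq'
    subst this
    push_cast at hq
    left
    constructor
    · rw [← mul_one (T.w j), ← hq, hp]; ring
    · rw [hp]; ring

lemma up_of_sq {i j : Fin n} (h : 0 < T.a i j)
    (hsq : T.a i j ^ 2 = ((2 : ℕ) : ℤ) * (T.w i * T.w j)) : Up T i j ∨ Up T j i := by
  rcases mult_of_sq Nat.prime_two h hsq with ⟨h1, h2⟩ | ⟨h1, h2⟩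
  · exact Or.inl ⟨by simpa using h1, by simpa using h2⟩
  · exact Or.inr ⟨by simpa using h1, by rw [a_symm]; simpa using h2⟩

/-- the permutation defined by a tight configuration -/
noncomputable def Tight.perm {κ : Type*} {v : Fin n → Fin n} {E : Edges (Fin n) κ} {c : κ → ℕ}
    {y : Fin n → ℝ} (h : Tight T v E c y) : Equiv.Perm (Fin n) :=
  Equiv.ofBijective v (Finite.injective_iff_bijective.1 h.inj)

lemma Tight.mw {N : ℕ} {κ : Type*} {v : Fin N → Fin n} {E : Edges (Fin N) κ} {c : κ → ℕ}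
    {y : Fin N → ℝ} (h : Tight T v E c y) (Y : Fin N → ℤ) (hY : ∀ i, y i ^ 2 = (Y i : ℝ)) (i j : Fin N) :
    T.m (v i) ^ 2 * T.w (v i) * Y j = T.m (v j) ^ 2 * T.w (v j) * Y i := by
  have := h.prop i j
  rw [hY, hY] at this
  exact_mod_cast this

/-- from `x² · p = (k y)² · p` deduce `x = k y` -/
lemma m_cancel {x y p : ℤ} (hx : 0 < x) (hy : 0 < y) (hp : 0 < p) (h : x ^ 2 * p = y ^ 2 * p) : x = y :=
  (pow_left_inj₀ hx.le hy.le two_ne_zero).1 (mul_right_cancel₀ hp.ne' h)

theorem Tight.cycle {N : ℕ} {v : Fin N → Fin n}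
    (h : Tight T v (cycleE N) (fun _ => 1) (fun _ => 1)) : CycleType T := by
  obtain rfl := h.span
  have o : Fin N := ⟨0, T.pos⟩
  have hs : ∀ l, Simple T (v ((cycleE N).src l)) (v ((cycleE N).tgt l)) :=
    fun l => simple_of_sq (h.pos l) (h.sq_eq l)
  have hw : ∀ k (hk : k < N), T.w (v ⟨k, hk⟩) = T.w (v ⟨0, T.pos⟩) := by
    intro k
    induction k with
    | zero => intro _; rfl
    | succ k ih =>
      intro hk
      have hh := (hs ⟨k, by omega⟩).2
      rw [show (cycleE N).tgt ⟨k, by omega⟩ = ⟨k + 1, hk⟩ from Fin.ext (by simp [cycleE, hk])] at hh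
      exact hh.trans (ih (by omega))
  refine ⟨h.perm, T.m (v ⟨0, T.pos⟩), T.w (v ⟨0, T.pos⟩), fun i => ?_, fun i => hw i.val i.isLt,
    fun i j hij h1 => ?_, fun i j hij h1 => ?_, fun i j hij h1 h2 => ?_⟩
  · show T.m (v i) = _
    have := h.mw (fun _ => 1) (fun _ => by simp) i ⟨0, T.pos⟩
    rw [show T.w (v i) = T.w (v ⟨0, T.pos⟩) from hw i.val i.isLt, mul_one, mul_one] at this
    exact m_cancel (T.m_pos _) (T.m_pos _) (T.w_pos _) this
  · show T.a (v i) (v j) = _
    have h3 : (cycleE N).tgt i = j := Fin.ext (by dsimp only [cycleE]; split_ifs <;> omega)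
    have := (hs i).1
    rw [h3] at this
    exact this.trans (hw i.val i.isLt)
  · show T.a (v i) (v j) = _
    have h3 : (cycleE N).tgt j = i := Fin.ext (by dsimp only [cycleE]; split_ifs <;> omega)
    have := (hs j).1
    rw [h3] at this
    rw [a_symm]
    exact this.trans (hw j.val j.isLt)
  · show T.a (v i) (v j) = _
    refine h.zero i j (Fin.ne_of_val_ne (by omega)) fun e => ⟨?_, ?_⟩ <;>
    · rintro ⟨h3, h4⟩
      have h3' := congrArg Fin.val h3
      have h4' := congrArg Fin.val h4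
      simp only [cycleE] at h3' h4'
      split_ifs at h4' <;> omega

theorem Tight.fork {N : ℕ} {v : Fin N → Fin n} (hN : 4 ≤ N)
    (h : Tight T v (forkE N) (forkC N) (forkY N)) : ForkD T ∨ ForkU T := by
  obtain rfl := h.span
  let one : Fin N := ⟨1, by omega⟩
  let zero : Fin N := ⟨0, by omega⟩
  let leaf : Fin N := ⟨N - 1, by omega⟩
  have hs : ∀ l : Fin (N - 1), l.val ≠ 0 → Simple T (v ((forkE N).src l)) (v ((forkE N).tgt l)) :=
    fun l hl => simple_of_sq (h.pos l) (by simpa [forkC, hl] using h.sq_eq l)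
  have hw : ∀ k (hk : k < N), 1 ≤ k → T.w (v ⟨k, hk⟩) = T.w (v one) := by
    intro k
    induction k using Nat.strong_induction_on with
    | _ k ih =>
      intro hk h1
      rcases h1.eq_or_lt' with h0 | h0
      · subst h0; rfl
      · have hh := (hs ⟨k - 1, by omega⟩ (by first | omega | (simp only; omega))).2
        have e1 : (forkE N).tgt ⟨k - 1, by omega⟩ = ⟨k, hk⟩ := Fin.ext (by simp [forkE]; omega)
        rw [e1] at hh
        rw [hh]
        dsimp only [forkE]
        split_ifs with h3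
        · exact ih _ (by omega) _ (by omega)
        · exact ih _ (by omega) _ (by omega)
  let Y : Fin N → ℤ := fun i => if i.val = 0 then 2 else if i.val + 2 < N then 4 else 1
  have hY : ∀ i, forkY N i ^ 2 = (Y i : ℝ) := by
    intro i
    simp only [forkY, Y]
    split_ifs <;> norm_num
  have hmi : ∀ i : Fin N, 1 ≤ i.val → i.val + 2 < N → T.m (v i) = 2 * T.m (v leaf) := by
    intro i h1 h2
    have := h.mw Y hY i leaf
    rw [show Y i = 4 by simp only [Y]; rw [if_neg (by omega), if_pos h2],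
      show Y leaf = 1 by simp only [Y, leaf]; rw [if_neg (by omega), if_neg (by omega)],
      show T.w (v i) = T.w (v one) from hw i.val i.isLt h1,
      show T.w (v leaf) = T.w (v one) from hw _ _ (by first | omega | (simp only; omega))] at this
    exact m_cancel (T.m_pos _) (by linarith [T.m_pos (v leaf)]) (T.w_pos (v one)) (by linarith)
  have hml : ∀ i : Fin N, N ≤ i.val + 2 → T.m (v i) = T.m (v leaf) := by
    intro i h1
    have := h.mw Y hY i leaf
    rw [show Y i = 1 by simp only [Y]; rw [if_neg (by omega), if_neg (by omega)],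
      show Y leaf = 1 by simp only [Y, leaf]; rw [if_neg (by omega), if_neg (by omega)],
      show T.w (v i) = T.w (v one) from hw i.val i.isLt (by omega),
      show T.w (v leaf) = T.w (v one) from hw _ _ (by first | omega | (simp only; omega))] at this
    exact m_cancel (T.m_pos _) (T.m_pos _) (T.w_pos (v one)) (by linarith)
  have hm0 := h.mw Y hY zero leaf
  rw [show Y zero = 2 by simp [Y, zero],
    show Y leaf = 1 by simp only [Y, leaf]; rw [if_neg (by omega), if_neg (by omega)],
    show T.w (v leaf) = T.w (v one) from hw _ _ (by first | omega | (simp only; omega))] at hm0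
  have ha : ∀ i j : Fin N, (j.val = i.val + 1 ∧ 1 ≤ i.val ∧ j.val + 2 ≤ N) ∨
      (i.val + 3 = N ∧ j.val + 1 = N) → T.a (v i) (v j) = T.w (v one) := by
    intro i j hij
    have hl : j.val - 1 < N - 1 := by omega
    have hh := (hs ⟨j.val - 1, hl⟩ (by first | omega | (simp only; omega))).1
    rw [show (forkE N).tgt ⟨j.val - 1, hl⟩ = j from Fin.ext (by simp [forkE]; omega),
      show (forkE N).src ⟨j.val - 1, hl⟩ = i from Fin.ext (by dsimp only [forkE]; split_ifs <;> omega)] at hh
    exact hh.trans (hw i.val i.isLt (by omega))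
  have hz : ∀ i j : Fin N, i.val < j.val → ¬ (i.val = 0 ∧ j.val = 1) →
      ¬ (j.val = i.val + 1 ∧ 1 ≤ i.val ∧ j.val + 2 ≤ N) → ¬ (i.val + 3 = N ∧ j.val + 1 = N) →
      T.a (v i) (v j) = 0 := by
    intro i j hij h1 h2 h3
    refine h.zero i j (Fin.ne_of_val_ne (by omega)) fun e => ⟨?_, ?_⟩ <;>
    · rintro ⟨h4, h5⟩
      have h4' := congrArg Fin.val h4
      have h5' := congrArg Fin.val h5
      simp only [forkE] at h4' h5'
      split_ifs at h4' <;> omega
  have e0 := up_of_sq (h.pos ⟨0, by omega⟩) (by simpa [forkC] using h.sq_eq ⟨0, by omega⟩)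
  rw [show (forkE N).tgt ⟨0, by omega⟩ = one from rfl,
    show (forkE N).src ⟨0, by omega⟩ = zero from Fin.ext (by dsimp only [forkE]; split_ifs <;> first | rfl | omega | (simp [zero] <;> omega))]
    at e0
  rcases e0 with ⟨e1, e2⟩ | ⟨e1, e2⟩
  · right
    rw [e1] at hm0
    have hmz : T.m (v zero) = 2 * T.m (v leaf) := m_cancel (T.m_pos _) (by linarith [T.m_pos (v leaf)])
      (T.w_pos (v zero)) (by linarith)
    refine ⟨h.perm, T.m (v leaf), T.w (v zero), fun i hi => ?_, fun i hi => hml i hi, fun i hi => ?_,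
      fun i hi => ?_, fun i j hij hh => ?_, fun i j hij hh => ?_, fun i j hij h1 h2 => ?_⟩
    · show T.m (v i) = _
      rcases Nat.eq_zero_or_pos i.val with h0 | h0
      · rw [show i = zero from Fin.ext h0]; exact hmz
      · exact hmi i h0 hi
    · show T.w (v i) = _; rw [show i = zero from Fin.ext hi]
    · show T.w (v i) = _; exact (hw i.val i.isLt hi).trans e1
    · show T.a (v i) (v j) = _
      rcases Nat.eq_zero_or_pos i.val with h0 | h0
      · rw [show i = zero from Fin.ext h0, show j = one from Fin.ext (by simp [one]; omega)]; exact e2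
      · rw [ha i j (Or.inl ⟨hh.1, h0, hh.2⟩), e1]
    · show T.a (v i) (v j) = _; rw [ha i j (Or.inr hh), e1]
    · exact hz i j hij (fun hh => h1 ⟨by omega, by omega⟩) (fun hh => h1 ⟨hh.1, hh.2.2⟩) h2
  · left
    rw [a_symm] at e2
    rw [e1] at hm0
    have hmz : T.m (v zero) = T.m (v leaf) :=
      m_cancel (T.m_pos _) (T.m_pos _) (T.w_pos (v one)) (by linarith)
    refine ⟨h.perm, T.m (v leaf), T.w (v one), fun i hi => ?_, fun i hi => hmi i hi.1 hi.2,
      fun i hi => hml i hi, fun i hi => ?_, fun i hi => hw i.val i.isLt hi, fun i j hij hh => ?_,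
      fun i j hij hh => ha i j (Or.inl hh), fun i j hij hh => ha i j (Or.inr hh), hz⟩
    · show T.m (v i) = _; rw [show i = zero from Fin.ext hi]; exact hmz
    · show T.w (v i) = _; rw [show i = zero from Fin.ext hi]; exact e1
    · show T.a (v i) (v j) = _
      rw [show i = zero from Fin.ext hh.1, show j = one from Fin.ext hh.2]; exact e2

theorem Tight.dfork {N : ℕ} {v : Fin N → Fin n} (hN : 5 ≤ N)
    (h : Tight T v (dforkE N) (fun _ => 1) (dforkY N)) : DForkType T := by
  obtain rfl := h.span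
  let one : Fin N := ⟨1, by omega⟩
  let two : Fin N := ⟨2, by omega⟩
  have hs : ∀ l : Fin (N - 1), Simple T (v ((dforkE N).src l)) (v ((dforkE N).tgt l)) :=
    fun l => simple_of_sq (h.pos l) (h.sq_eq l)
  have h12 := (hs ⟨1, by omega⟩).2
  rw [show (dforkE N).tgt ⟨1, by omega⟩ = two from rfl,
    show (dforkE N).src ⟨1, by omega⟩ = one from Fin.ext (by dsimp only [dforkE]; split_ifs <;> first | rfl | omega | (simp [one] <;> omega))]
    at h12
  have hw : ∀ k (hk : k < N), T.w (v ⟨k, hk⟩) = T.w (v one) := by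
    intro k
    induction k using Nat.strong_induction_on with
    | _ k ih =>
      intro hk
      rcases (by omega : k = 0 ∨ k = 1 ∨ 2 ≤ k) with rfl | rfl | h2
      · have hh := (hs ⟨0, by omega⟩).2
        rw [show (dforkE N).tgt ⟨0, by omega⟩ = two from Fin.ext (by dsimp only [dforkE]; split_ifs <;> first | rfl | omega | (simp [two] <;> omega)),
          show (dforkE N).src ⟨0, by omega⟩ = ⟨0, hk⟩ from Fin.ext (by dsimp only [dforkE]; split_ifs <;> first | rfl | omega | (simp <;> omega))]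
          at hh
        rw [← hh, h12]
      · rfl
      · have hh := (hs ⟨k - 1, by omega⟩).2
        rw [show (dforkE N).tgt ⟨k - 1, by omega⟩ = ⟨k, hk⟩ from
          Fin.ext (by dsimp only [dforkE]; split_ifs <;> first | rfl | omega | (simp <;> omega))] at hh
        rw [hh]
        dsimp only [dforkE]
        split_ifs with h3
        · exact ih _ (by omega) _
        · exact ih _ (by omega) _
  let Y : Fin N → ℤ := fun i => if 2 ≤ i.val ∧ i.val + 2 < N then 4 else 1
  have hY : ∀ i, dforkY N i ^ 2 = (Y i : ℝ) := by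
    intro i
    simp only [dforkY, Y]
    split_ifs <;> norm_num
  have hm : ∀ i : Fin N, T.m (v i) ^ 2 * T.w (v one) = T.m (v one) ^ 2 * T.w (v one) * Y i := by
    intro i
    have := h.mw Y hY i one
    rw [show Y one = 1 by simp [Y, one], show T.w (v i) = T.w (v one) from hw i.val i.isLt, mul_one] at this
    exact this
  have hml : ∀ i : Fin N, ¬(2 ≤ i.val ∧ i.val + 2 < N) → T.m (v i) = T.m (v one) := fun i hi =>
    m_cancel (T.m_pos _) (T.m_pos _) (T.w_pos (v one)) (by simpa [Y, hi] using hm i)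
  have ha : ∀ i j : Fin N, (i.val = 0 ∧ j.val = 2) ∨ (i.val = 1 ∧ j.val = 2) ∨
      (j.val = i.val + 1 ∧ 2 ≤ i.val ∧ j.val + 2 ≤ N) ∨
      (i.val + 3 = N ∧ j.val + 1 = N) → T.a (v i) (v j) = T.w (v one) := by
    intro i j hij
    have hl : (if i.val = 0 then 0 else j.val - 1) < N - 1 := by split_ifs <;> omega
    have hh := (hs ⟨_, hl⟩).1
    rw [show (dforkE N).tgt ⟨_, hl⟩ = j from Fin.ext (by dsimp only [dforkE]; split_ifs <;> omega),
      show (dforkE N).src ⟨_, hl⟩ = i from Fin.ext (by dsimp only [dforkE]; split_ifs <;> omega)] at hh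
    exact hh.trans (hw i.val i.isLt)
  refine ⟨h.perm, T.m (v one), T.w (v one), fun i hi => hml i (by omega), fun i hi => ?_,
    fun i hi => hml i (by omega), fun i => hw i.val i.isLt, fun i j _ hh => ha i j (Or.inl hh),
    fun i j _ hh => ha i j (Or.inr (Or.inl hh)), fun i j _ hh => ha i j (Or.inr (Or.inr (Or.inl hh))),
    fun i j _ hh => ha i j (Or.inr (Or.inr (Or.inr hh))), fun i j hij h1 h2 h3 h4 => ?_⟩
  · exact m_cancel (T.m_pos _) (by linarith [T.m_pos (v one)]) (T.w_pos (v one)) (by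
      have := hm i; rw [show Y i = 4 by simp [Y, hi]] at this; show T.m (v i) ^ 2 * _ = _; linarith)
  · refine h.zero i j (Fin.ne_of_val_ne (by omega)) fun e => ⟨?_, ?_⟩ <;>
    · rintro ⟨h5, h6⟩
      have h5' := congrArg Fin.val h5
      have h6' := congrArg Fin.val h6
      simp only [dforkE] at h5' h6'
      split_ifs at h5' h6' <;> omega

theorem Tight.ends {N : ℕ} {v : Fin N → Fin n} (hN : 3 ≤ N)
    (h : Tight T v (chainE N) (endsC N) (endsY N)) : ChainUU T ∨ ChainUD T ∨ ChainDU T := by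
  obtain rfl := h.span
  let zero : Fin N := ⟨0, by omega⟩
  let one : Fin N := ⟨1, by omega⟩
  let pen : Fin N := ⟨N - 2, by omega⟩
  let last : Fin N := ⟨N - 1, by omega⟩
  have hw : ∀ k (hk : k < N), 1 ≤ k → k + 1 < N → T.w (v ⟨k, hk⟩) = T.w (v one) := by
    intro k
    induction k with
    | zero => intro _ h1; omega
    | succ k ih =>
      intro hk _ h2
      rcases Nat.eq_zero_or_pos k with rfl | h0
      · rfl
      · have hh := simple_of_sq (h.pos ⟨k, by omega⟩) (by
          have h3 := h.sq_eq ⟨k, by omega⟩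
          rw [endsC, if_neg (by first | omega | (simp only; omega))] at h3
          exact h3)
        exact hh.2.trans (ih (by omega) h0 (by omega))
  let Y : Fin N → ℤ := fun i => if i.val = 0 ∨ i.val + 1 = N then 1 else 2
  have hY : ∀ i, endsY N i ^ 2 = (Y i : ℝ) := by
    intro i
    simp only [endsY, Y]
    split_ifs <;> norm_num
  have hY1 : Y one = 2 := by simp only [Y, one]; rw [if_neg (by omega)]
  have hmi : ∀ i : Fin N, 0 < i.val → i.val + 1 < N → T.m (v i) = T.m (v one) := by
    intro i h1 h2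
    have := h.mw Y hY i one
    rw [show Y i = 2 by simp only [Y]; rw [if_neg (by omega)], hY1,
      show T.w (v i) = T.w (v one) from hw i.val i.isLt h1 h2] at this
    exact m_cancel (T.m_pos _) (T.m_pos _) (T.w_pos (v one)) (by linarith)
  have hmz := h.mw Y hY zero one
  rw [hY1, show Y zero = 1 by simp [Y, zero]] at hmz
  have hml := h.mw Y hY last one
  rw [hY1, show Y last = 1 by simp only [Y, last]; rw [if_pos (by omega)]] at hml
  have hpen : T.w (v pen) = T.w (v one) := hw _ _ (by omega) (by omega)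
  have ha : ∀ i j : Fin N, j.val = i.val + 1 → 1 ≤ i.val → j.val + 1 < N → T.a (v i) (v j) = T.w (v one) := by
    intro i j h1 h2 h3
    have hl : i.val < N - 1 := by omega
    have hh := simple_of_sq (h.pos ⟨i.val, hl⟩) (by
      have h4 := h.sq_eq ⟨i.val, hl⟩
      rw [endsC, if_neg (by first | omega | (simp only; omega))] at h4
      exact h4)
    rw [show (chainE N).tgt ⟨i.val, hl⟩ = j from Fin.ext h1.symm] at hh
    exact hh.1.trans (hw i.val i.isLt h2 (by omega))
  have hz : ∀ i j : Fin N, i.val + 1 < j.val → T.a (v i) (v j) = 0 := by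
    intro i j hij
    refine h.zero i j (Fin.ne_of_val_ne (by omega)) fun e => ⟨?_, ?_⟩ <;>
    · rintro ⟨h4, h5⟩
      have h4' := congrArg Fin.val h4
      have h5' := congrArg Fin.val h5
      simp only [chainE] at h4' h5'
      omega
  have e0 := up_of_sq (h.pos ⟨0, by omega⟩) (by
    have h4 := h.sq_eq ⟨0, by omega⟩
    rw [endsC, if_pos (Or.inl rfl)] at h4
    exact h4)
  rw [show (chainE N).tgt ⟨0, by omega⟩ = one from rfl, show (chainE N).src ⟨0, by omega⟩ = zero from rfl] at e0
  have e1 := up_of_sq (h.pos ⟨N - 2, by omega⟩) (by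
    have h4 := h.sq_eq ⟨N - 2, by omega⟩
    rw [endsC, if_pos (Or.inr (by first | omega | (simp only; omega)))] at h4
    exact h4)
  rw [show (chainE N).tgt ⟨N - 2, by omega⟩ = last from Fin.ext (by simp [chainE, last]; omega),
    show (chainE N).src ⟨N - 2, by omega⟩ = pen from rfl] at e1
  rcases e0 with ⟨u1, u2⟩ | ⟨u1, u2⟩ <;> rcases e1 with ⟨l1, l2⟩ | ⟨l1, l2⟩
  · -- `w₁ = 2 w₀`, `w_last = 2 w₁`
    rw [hpen] at l1 l2
    rw [u1] at hmz
    rw [l1] at hml
    have hM : T.m (v zero) = T.m (v one) := m_cancel (T.m_pos _) (T.m_pos _) (T.w_pos (v zero)) (by linarith)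
    have hL : T.m (v one) = 2 * T.m (v last) :=
      m_cancel (T.m_pos _) (by linarith [T.m_pos (v last)]) (T.w_pos (v one)) (by linarith)
    left
    refine ⟨h.perm, T.m (v last), T.w (v zero), fun i hi => ?_, fun i hi => ?_, fun i hi => ?_,
      fun i hi => ?_, fun i hi => ?_, fun i j hij hh => ?_, fun i j hij hh => ?_, fun i j hij h1 h2 => ?_⟩
    · show T.m (v i) = _
      rcases Nat.eq_zero_or_pos i.val with h0 | h0
      · rw [show i = zero from Fin.ext h0, hM, hL]
      · rw [hmi i h0 hi, hL]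
    · show T.m (v i) = _; rw [show i = last from Fin.ext (by simp [last]; omega)]
    · show T.w (v i) = _; rw [show i = zero from Fin.ext hi]
    · show T.w (v i) = _; exact (hw i.val i.isLt hi.1 hi.2).trans u1
    · show T.w (v i) = _; rw [show i = last from Fin.ext (by simp [last]; omega), l1, u1]; ring
    · show T.a (v i) (v j) = _
      rcases Nat.eq_zero_or_pos i.val with h0 | h0
      · rw [show i = zero from Fin.ext h0, show j = one from Fin.ext (by simp [one]; omega), u2]
      · rw [ha i j hh.1 h0 hh.2, u1]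
    · show T.a (v i) (v j) = _
      rw [show i = pen from Fin.ext (by simp [pen]; omega), show j = last from Fin.ext (by simp [last]; omega), l2, u1]
      ring
    · exact hz i j (by omega)
  · -- `w₁ = 2 w₀`, `w₁ = 2 w_last`
    rw [hpen] at l1
    rw [a_symm T (v last) (v pen)] at l2
    have hwl : T.w (v last) = T.w (v zero) := by omega
    rw [u1] at hmz
    rw [hwl, u1] at hml
    have hM : T.m (v zero) = T.m (v one) := m_cancel (T.m_pos _) (T.m_pos _) (T.w_pos (v zero)) (by linarith)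
    have hL : T.m (v last) = T.m (v one) := m_cancel (T.m_pos _) (T.m_pos _) (T.w_pos (v zero)) (by linarith)
    right; left
    refine ⟨h.perm, T.m (v one), T.w (v zero), fun i => ?_, fun i hi => ?_,
      fun i hi => ?_, fun i hi => ?_, fun i j hij hh => ?_, fun i j hij h1 => ?_⟩
    · show T.m (v i) = _
      rcases (by omega : i.val = 0 ∨ i.val + 1 = N ∨ (0 < i.val ∧ i.val + 1 < N)) with h0 | h0 | h0
      · rw [show i = zero from Fin.ext h0, hM]
      · rw [show i = last from Fin.ext (by simp [last]; omega), hL]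
      · exact hmi i h0.1 h0.2
    · show T.w (v i) = _; rw [show i = zero from Fin.ext hi]
    · show T.w (v i) = _; exact (hw i.val i.isLt hi.1 hi.2).trans u1
    · show T.w (v i) = _; rw [show i = last from Fin.ext (by simp [last]; omega), hwl]
    · show T.a (v i) (v j) = _
      rcases (by omega : i.val = 0 ∨ j.val + 1 = N ∨ (0 < i.val ∧ j.val + 1 < N)) with h0 | h0 | h0
      · rw [show i = zero from Fin.ext h0, show j = one from Fin.ext (by simp [one]; omega), u2]
      · rw [show i = pen from Fin.ext (by simp [pen]; omega), show j = last from Fin.ext (by simp [last]; omega),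
          l2, hwl]
      · rw [ha i j hh h0.1 h0.2, u1]
    · exact hz i j (by omega)
  · -- `w₀ = 2 w₁`, `w_last = 2 w₁`
    rw [hpen] at l1 l2
    rw [a_symm] at u2
    rw [u1] at hmz
    rw [l1] at hml
    have hM : T.m (v one) = 2 * T.m (v zero) :=
      m_cancel (T.m_pos _) (by linarith [T.m_pos (v zero)]) (T.w_pos (v one)) (by linarith)
    have hL : T.m (v one) = 2 * T.m (v last) :=
      m_cancel (T.m_pos _) (by linarith [T.m_pos (v last)]) (T.w_pos (v one)) (by linarith)
    right; right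
    refine ⟨h.perm, T.m (v zero), T.w (v one), fun i hi => ?_, fun i hi => ?_, fun i hi => ?_,
      fun i hi => ?_, fun i hi => hw i.val i.isLt hi.1 hi.2, fun i hi => ?_, fun i j hij hh => ?_,
      fun i j hij hh => ha i j hh.1 hh.2.1 (by omega), fun i j hij hh => ?_, fun i j hij h1 h2 h3 => ?_⟩
    · show T.m (v i) = _; rw [show i = zero from Fin.ext hi]
    · show T.m (v i) = _; rw [hmi i hi.1 hi.2, hM]
    · show T.m (v i) = _; rw [show i = last from Fin.ext (by simp [last]; omega)]; linarith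
    · show T.w (v i) = _; rw [show i = zero from Fin.ext hi, u1]
    · show T.w (v i) = _; rw [show i = last from Fin.ext (by simp [last]; omega), l1]
    · show T.a (v i) (v j) = _
      rw [show i = zero from Fin.ext hh.1, show j = one from Fin.ext hh.2, u2]
    · show T.a (v i) (v j) = _
      rw [show i = pen from Fin.ext (by simp [pen]; omega), show j = last from Fin.ext (by simp [last]; omega), l2]
    · exact hz i j (by omega)
  · -- `w₀ = 2 w₁`, `w₁ = 2 w_last`: the first type reversed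
    rw [hpen] at l1
    rw [a_symm] at u2
    rw [a_symm T (v last) (v pen)] at l2
    have hwz : T.w (v zero) = 4 * T.w (v last) := by omega
    rw [hwz, l1] at hmz
    rw [l1] at hml
    have hL : T.m (v last) = T.m (v one) := m_cancel (T.m_pos _) (T.m_pos _) (T.w_pos (v last)) (by linarith)
    have hM : T.m (v one) = 2 * T.m (v zero) :=
      m_cancel (T.m_pos _) (by linarith [T.m_pos (v zero)]) (T.w_pos (v last)) (by linarith)
    left
    refine ⟨Fin.revPerm.trans h.perm, T.m (v zero), T.w (v last), fun i hi => ?_, fun i hi => ?_,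
      fun i hi => ?_, fun i hi => ?_, fun i hi => ?_, fun i j hij hh => ?_, fun i j hij hh => ?_,
      fun i j hij h1 h2 => ?_⟩
    · show T.m (v i.rev) = _
      rcases Nat.eq_zero_or_pos i.val with h0 | h0
      · rw [show i.rev = last from Fin.ext (by simp [last]; omega), hL, hM]
      · rw [hmi i.rev (by simp only [Fin.val_rev]; omega) (by simp only [Fin.val_rev]; omega), hM]
    · show T.m (v i.rev) = _; rw [show i.rev = zero from Fin.ext (by simp [zero]; omega)]
    · show T.w (v i.rev) = _; rw [show i.rev = last from Fin.ext (by simp [last]; omega)]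
    · show T.w (v i.rev) = _
      rw [show T.w (v i.rev) = T.w (v one) from hw i.rev.val i.rev.isLt
        (by simp only [Fin.val_rev]; omega) (by simp only [Fin.val_rev]; omega), l1]
    · show T.w (v i.rev) = _; rw [show i.rev = zero from Fin.ext (by simp [zero]; omega), hwz]
    · show T.a (v i.rev) (v j.rev) = _
      rw [a_symm]
      rcases Nat.eq_zero_or_pos i.val with h0 | h0
      · rw [show i.rev = last from Fin.ext (by simp [last]; omega),
          show j.rev = pen from Fin.ext (by simp [pen]; omega), l2]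
      · rw [ha j.rev i.rev (by simp only [Fin.val_rev]; omega) (by simp only [Fin.val_rev]; omega)
          (by simp only [Fin.val_rev]; omega), l1]
    · show T.a (v i.rev) (v j.rev) = _
      rw [a_symm, show i.rev = one from Fin.ext (by simp [one]; omega),
        show j.rev = zero from Fin.ext (by simp [zero]; omega), u2, l1]
      ring
    · show T.a (v i.rev) (v j.rev) = _
      rw [a_symm]
      exact hz j.rev i.rev (by simp only [Fin.val_rev]; omega)

end Groth.Agent.NumTypeLib
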