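import Groth.Agent.NumTypeLib.Config

/-!
# Configurations carrying a null vector: they span all indices and determine the type
-/

namespace Groth.Agent.NumTypeLib

open Finset Real

variable {n : ℕ} (T : Models.NumericalType n)

/-- the conclusion for a null configuration -/
structure Tight {N : ℕ} {κ : Type*} (v : Fin N → Fin n) (E : Edges (Fin N) κ) (c : κ → ℕ)
    (y : Fin N → ℝ) : Prop where
  inj : Function.Injective v
  span : N = n
  two : ∀ i, T.IsMinusTwo (v i)
  sq_eq : ∀ e, T.a (v (E.src e)) (v (E.tgt e)) ^ 2 = c e * (T.w (v (E.src e)) * T.w (v (E.tgt e)))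
  pos : ∀ e, 0 < T.a (v (E.src e)) (v (E.tgt e))
  zero : ∀ i j, i ≠ j → (∀ e, ¬(E.src e = i ∧ E.tgt e = j) ∧ ¬(E.src e = j ∧ E.tgt e = i)) →
    T.a (v i) (v j) = 0
  prop : ∀ i j, (T.m (v i) : ℝ) ^ 2 * T.w (v i) * y j ^ 2 = (T.m (v j) : ℝ) ^ 2 * T.w (v j) * y i ^ 2

theorem tight {N : ℕ} {κ : Type*} [Fintype κ] (v : Fin N → Fin n) (hv : Function.Injective v)
    (htwo : ∀ i, T.IsMinusTwo (v i)) (E : Edges (Fin N) κ) (hE : E.Distinct)
    (c : κ → ℕ) (hpos : ∀ e, 0 < T.a (v (E.src e)) (v (E.tgt e)))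
    (hc : ∀ e, (c e : ℤ) * (T.w (v (E.src e)) * T.w (v (E.tgt e))) ≤ T.a (v (E.src e)) (v (E.tgt e)) ^ 2)
    (y : Fin N → ℝ) (hy : ∀ i, 0 < y i) (hN : 0 < N)
    (hsum : ∑ i, y i ^ 2 ≤ ∑ e, √(c e) * (y (E.src e) * y (E.tgt e))) : Tight T v E c y := by
  classical
  have hspan : N = n := by
    rcases (Fintype.card_le_of_injective v hv).lt_or_eq with h | h
    · exact (no_test T v hv (by simpa using h) htwo E hE c hpos hc y (fun i => (hy i).le) ⟨0, hN⟩ (hy _).ne' hsum).elim
    · simpa using h
  subst hspan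
  let σ : Fin N ≃ Fin N := Equiv.ofBijective v (Finite.injective_iff_bijective.1 hv)
  let u : Fin N → ℝ := fun i => y i / √(T.w (v i))
  have hs : ∀ i, 0 < √(T.w (v i) : ℝ) := fun i => Real.sqrt_pos.2 (by exact_mod_cast T.w_pos _)
  have hu : ∀ i, 0 < u i := fun i => div_pos (hy i) (hs i)
  let A : Matrix (Fin N) (Fin N) ℝ := fun i j => (T.a i j : ℝ)
  let m : Fin N → ℝ := fun i => (T.m i : ℝ)
  have hA : ∀ i j, i ≠ j → 0 ≤ A i j := fun i j h => by simpa [A] using T.offDiag_nonneg i j h
  have hAm : ∀ i, ∑ j, A i j * m j = 0 := fun i => by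
    simp only [A, m]; exact_mod_cast sum_row T i
  have hsymm : ∀ i j, A i j = A j i := fun i j => by simp [A, a_symm T i j]
  have hm : ∀ i, 0 < m i := fun i => by simpa [m] using T.m_pos i
  let x : Fin N → ℝ := fun i => u (σ.symm i)
  let G : Fin N × Fin N → ℝ := fun p => (T.a (v p.1) (v p.2) : ℝ) * u p.1 * u p.2
  have hquad : ∑ i, ∑ j, A i j * x i * x j = ∑ p, G p := by
    rw [← Equiv.sum_comp σ, Fintype.sum_prod_type]
    refine sum_congr rfl fun i _ => ?_
    rw [← Equiv.sum_comp σ]
    refine sum_congr rfl fun j _ => ?_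
    simp only [x, A, G, Equiv.symm_apply_apply]
    rfl
  have hle := quad_nonpos A m x hsymm hA hm hAm
  rw [hquad, ← sum_filter_add_sum_filter_not univ (fun p : Fin N × Fin N => p.1 = p.2)] at hle
  have hdiag : ∑ p ∈ univ.filter (fun p : Fin N × Fin N => p.1 = p.2), G p = -2 * ∑ i, y i ^ 2 := by
    rw [show univ.filter (fun p : Fin N × Fin N => p.1 = p.2) = univ.diag by ext p; simp, sum_diag, mul_sum]
    refine sum_congr rfl fun i _ => ?_
    simp only [G, u, (htwo i).2]
    push_cast
    have := hs i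
    field_simp
    rw [Real.sq_sqrt (by exact_mod_cast (T.w_pos _).le)]
    ring
  let φ : κ ⊕ κ → Fin N × Fin N :=
    Sum.elim (fun e => (E.src e, E.tgt e)) (fun e => (E.tgt e, E.src e))
  have hφ : Function.Injective φ := by
    rintro (e | e) (e' | e') h <;> simp only [φ, Sum.elim_inl, Sum.elim_inr, Prod.mk.injEq] at h
    · exact congrArg _ (hE.1 e e' h.1 h.2)
    · exact (hE.2 e e' h.1 h.2).elim
    · exact (hE.2 e e' h.2 h.1).elim
    · exact congrArg _ (hE.1 e e' h.2 h.1)
  have hne : ∀ e, E.src e ≠ E.tgt e := fun e h => hE.2 e e h h.symm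
  set S := univ.map ⟨φ, hφ⟩ with hS
  have hsub : S ⊆ univ.filter (fun p : Fin N × Fin N => ¬p.1 = p.2) := by
    intro p hp
    simp only [S, mem_map, mem_univ, true_and, Function.Embedding.coeFn_mk] at hp
    obtain ⟨e | e, rfl⟩ := hp
    · simpa [φ] using hne e
    · simpa [φ] using (hne e).symm
  rw [← sum_sdiff hsub, hdiag] at hle
  have hGS : ∑ p ∈ S, G p = 2 * ∑ e, G (E.src e, E.tgt e) := by
    rw [hS, sum_map, Function.Embedding.coeFn_mk, Fintype.sum_sum_type, two_mul]
    congr 1
    refine sum_congr rfl fun e _ => ?_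
    simp only [φ, Sum.elim_inr, G, a_symm T (v (E.tgt e))]
    ring
  have hb : ∀ e, √(c e) * (√(T.w (v (E.src e))) * √(T.w (v (E.tgt e)))) ≤
      (T.a (v (E.src e)) (v (E.tgt e)) : ℝ) := by
    intro e
    rw [← Real.sqrt_mul (by exact_mod_cast (T.w_pos _).le),
      ← Real.sqrt_mul (Nat.cast_nonneg _), Real.sqrt_le_iff]
    exact ⟨by exact_mod_cast (hpos e).le, by exact_mod_cast hc e⟩
  have hbe : ∀ e, √(c e) * (y (E.src e) * y (E.tgt e)) =
      √(c e) * (√(T.w (v (E.src e))) * √(T.w (v (E.tgt e)))) * (u (E.src e) * u (E.tgt e)) := by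
    intro e
    have := hs (E.src e); have := hs (E.tgt e)
    simp only [u]
    field_simp
  have hbound : ∀ e, √(c e) * (y (E.src e) * y (E.tgt e)) ≤ G (E.src e, E.tgt e) := by
    intro e
    rw [hbe e, show G (E.src e, E.tgt e) =
      (T.a (v (E.src e)) (v (E.tgt e)) : ℝ) * (u (E.src e) * u (E.tgt e)) by simp only [G]; ring]
    exact mul_le_mul_of_nonneg_right (hb e) (mul_pos (hu _) (hu _)).le
  have hrest : ∀ p ∈ univ.filter (fun p : Fin N × Fin N => ¬p.1 = p.2) \ S, 0 ≤ G p := by
    intro p hp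
    have h1 := (mem_filter.1 (mem_sdiff.1 hp).1).2
    exact mul_nonneg (mul_nonneg (by exact_mod_cast T.offDiag_nonneg _ _ (hv.ne h1)) (hu _).le) (hu _).le
  have hr0 := sum_nonneg hrest
  have hb0 := sum_le_sum (fun e (_ : e ∈ univ) => hbound e)
  have heq : ∑ e, √(c e) * (y (E.src e) * y (E.tgt e)) = ∑ e, G (E.src e, E.tgt e) := by linarith
  have hz : ∑ p ∈ univ.filter (fun p : Fin N × Fin N => ¬p.1 = p.2) \ S, G p = 0 := by linarith
  have hq0 : ∑ i, ∑ j, A i j * x i * x j = 0 := by
    rw [hquad, ← sum_filter_add_sum_filter_not univ (fun p : Fin N × Fin N => p.1 = p.2),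
      ← sum_sdiff hsub, hdiag]
    linarith
  refine ⟨hv, rfl, htwo, fun e => ?_, hpos, fun i j hij hnot => ?_, fun i j => ?_⟩
  · have h1 := (sum_eq_sum_iff_of_le (fun e (_ : e ∈ univ) => hbound e)).1 heq e (mem_univ e)
    rw [hbe e, show G (E.src e, E.tgt e) =
      (T.a (v (E.src e)) (v (E.tgt e)) : ℝ) * (u (E.src e) * u (E.tgt e)) by simp only [G]; ring] at h1
    have h2 := mul_right_cancel₀ (mul_pos (hu (E.src e)) (hu (E.tgt e))).ne' h1
    have h3 : (T.a (v (E.src e)) (v (E.tgt e)) : ℝ) ^ 2 =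
        (c e : ℝ) * ((T.w (v (E.src e)) : ℝ) * T.w (v (E.tgt e))) := by
      rw [← h2, mul_pow, mul_pow, Real.sq_sqrt (Nat.cast_nonneg _),
        Real.sq_sqrt (by exact_mod_cast (T.w_pos _).le), Real.sq_sqrt (by exact_mod_cast (T.w_pos _).le)]
    exact_mod_cast h3
  · have hmem : ((i, j) : Fin N × Fin N) ∈ univ.filter (fun p : Fin N × Fin N => ¬p.1 = p.2) \ S := by
      simp only [mem_sdiff, mem_filter, mem_univ, true_and, S, mem_map, Function.Embedding.coeFn_mk]
      refine ⟨hij, ?_⟩
      rintro ⟨e | e, he⟩ <;> simp only [φ, Sum.elim_inl, Sum.elim_inr, Prod.mk.injEq] at he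
      · exact (hnot e).1 he
      · exact (hnot e).2 ⟨he.2, he.1⟩
    have h1 := (sum_eq_zero_iff_of_nonneg hrest).1 hz _ hmem
    simp only [G, mul_eq_zero, (hu i).ne', (hu j).ne', or_false, Int.cast_eq_zero] at h1
    exact h1
  · have h := quad_eq_zero A m x hsymm hA hm hAm
      (fun I h1 h2 => by simpa [A] using T.connected I h1 h2) hq0 (v i) (v j)
    have hσ : ∀ k, σ.symm (v k) = k := fun k => σ.symm_apply_apply k
    simp only [x, hσ, m, u] at h
    have := hs i; have := hs j
    have hmi : (T.m (v i) : ℝ) ≠ 0 := by exact_mod_cast (T.m_pos _).ne'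
    have hmj : (T.m (v j) : ℝ) ≠ 0 := by exact_mod_cast (T.m_pos _).ne'
    field_simp at h
    have h2 := congrArg (fun z => z ^ 2) h
    simp only [mul_pow] at h2
    rw [Real.sq_sqrt (by exact_mod_cast (T.w_pos _).le),
      Real.sq_sqrt (by exact_mod_cast (T.w_pos _).le)] at h2
    linarith

/-! ### The configurations -/

/-- the cycle -/
def cycleE (N : ℕ) : Edges (Fin N) (Fin N) :=
  ⟨fun l => l, fun l => ⟨if l.val + 1 < N then l.val + 1 else 0, by
    have := l.isLt; split_ifs <;> omega⟩⟩

/-- the chain -/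
def chainE (N : ℕ) : Edges (Fin N) (Fin (N - 1)) :=
  ⟨fun l => ⟨l.val, by omega⟩, fun l => ⟨l.val + 1, by omega⟩⟩

/-- heavy edges at the two ends of a chain -/
def endsC (N : ℕ) (l : Fin (N - 1)) : ℕ := if l.val = 0 ∨ l.val + 2 = N then 2 else 1

/-- null vector for the chain with heavy ends -/
noncomputable def endsY (N : ℕ) (i : Fin N) : ℝ := if i.val = 0 ∨ i.val + 1 = N then 1 else √2

/-- chain `0 … N-2` with `N-1` attached to `N-3` -/
def forkE (N : ℕ) : Edges (Fin N) (Fin (N - 1)) :=
  ⟨fun l => ⟨if l.val + 2 < N then l.val else N - 3, by have := l.isLt; split_ifs <;> omega⟩,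
    fun l => ⟨l.val + 1, by omega⟩⟩

/-- heavy first edge -/
def forkC (N : ℕ) (l : Fin (N - 1)) : ℕ := if l.val = 0 then 2 else 1

/-- null vector for the fork with heavy first edge -/
noncomputable def forkY (N : ℕ) (i : Fin N) : ℝ :=
  if i.val = 0 then √2 else if i.val + 2 < N then 2 else 1

/-- double fork -/
def dforkE (N : ℕ) : Edges (Fin N) (Fin (N - 1)) :=
  ⟨fun l => ⟨if l.val + 2 < N then l.val else N - 3, by have := l.isLt; split_ifs <;> omega⟩,
    fun l => ⟨if l.val = 0 then (if 2 < N then 2 else 0) else l.val + 1, by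
      have := l.isLt; split_ifs <;> omega⟩⟩

/-- null vector for the double fork -/
noncomputable def dforkY (N : ℕ) (i : Fin N) : ℝ := if 2 ≤ i.val ∧ i.val + 2 < N then 2 else 1

lemma sum_single {N : ℕ} (k : Fin N) (r : ℝ) : (∑ i : Fin N, if i.val = k.val then r else 0) = r := by
  simp [Fin.val_inj]

variable {T}

theorem cycle_tight {N : ℕ} (hN : 3 ≤ N) (v : Fin N → Fin n) (hv : Function.Injective v)
    (htwo : ∀ i, T.IsMinusTwo (v i))
    (hpos : ∀ l, 0 < T.a (v ((cycleE N).src l)) (v ((cycleE N).tgt l))) :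
    Tight T v (cycleE N) (fun _ => 1) (fun _ => 1) := by
  refine tight T v hv htwo _ ⟨fun e e' h _ => h, ?_⟩ _ hpos (fun e => one_ww T (hpos e)) _
    (fun _ => one_pos) (by omega) (by simp)
  intro e e' h1 h2
  have h1' := congrArg Fin.val h1
  have h2' := congrArg Fin.val h2
  simp only [cycleE] at h1' h2'
  have := e.isLt; have := e'.isLt
  split_ifs at h1' h2' <;> omega

theorem ends_tight {N : ℕ} (hN : 3 ≤ N) (v : Fin N → Fin n) (hv : Function.Injective v)
    (htwo : ∀ i, T.IsMinusTwo (v i))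
    (hpos : ∀ l, 0 < T.a (v ((chainE N).src l)) (v ((chainE N).tgt l)))
    (h0 : ∀ l, l.val = 0 ∨ l.val + 2 = N → Heavy T (v ((chainE N).src l)) (v ((chainE N).tgt l))) :
    Tight T v (chainE N) (endsC N) (endsY N) := by
  refine tight T v hv htwo _ ⟨?_, ?_⟩ _ hpos (fun e => ?_) _ (fun i => ?_) (by omega) ?_
  · intro e e' h _
    exact Fin.ext (Fin.mk.inj_iff.1 h)
  · intro e e' h1 h2
    have h1' := congrArg Fin.val h1
    have h2' := congrArg Fin.val h2
    simp only [chainE] at h1' h2'
    omega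
  · simp only [endsC]
    split_ifs with h
    · exact (h0 e h).2
    · exact one_ww T (hpos e)
  · simp only [endsY]; split_ifs <;> positivity
  · have hy : ∀ i : Fin N, endsY N i ^ 2 = 2 - (if i.val = (⟨0, by omega⟩ : Fin N).val then 1 else 0) -
        (if i.val = (⟨N - 1, by omega⟩ : Fin N).val then 1 else 0) := by
      intro i
      simp only [endsY]
      have := i.isLt
      rcases (by omega : i.val = 0 ∨ i.val + 1 = N ∨ (i.val ≠ 0 ∧ i.val + 1 ≠ N)) with h | h | h
      · rw [if_pos (Or.inl h), if_pos h, if_neg (by omega)]; norm_num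
      · rw [if_pos (Or.inr h), if_neg (by omega), if_pos (by omega)]; norm_num
      · rw [if_neg (by omega), if_neg h.1, if_neg (by omega), Real.sq_sqrt (by norm_num)]; norm_num
    have he : ∀ e : Fin (N - 1), √(endsC N e : ℝ) * (endsY N ((chainE N).src e) * endsY N ((chainE N).tgt e)) = 2 := by
      intro e
      have h2 : √(2:ℝ) * √2 = 2 := Real.mul_self_sqrt (by norm_num)
      have := e.isLt
      dsimp only [chainE]; simp only [endsC, endsY]
      rcases (by omega : e.val = 0 ∨ e.val + 2 = N ∨ (e.val ≠ 0 ∧ e.val + 2 ≠ N)) with h | h | h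
      · rw [if_pos (Or.inl h), if_pos (Or.inl h), if_neg (by omega)]; simpa using h2
      · rw [if_pos (Or.inr h), if_neg (by omega), if_pos (Or.inr (by omega))]; simpa using h2
      · rw [if_neg (by omega), if_neg (by omega), if_neg (by omega)]; simpa using h2
    rw [Finset.sum_congr rfl (fun i _ => hy i), Finset.sum_congr rfl (fun i _ => he i)]
    repeat rw [sum_sub_distrib]
    repeat rw [sum_single]
    simp only [sum_const, card_univ, Fintype.card_fin, nsmul_eq_mul]
    rw [Nat.cast_sub (by omega)]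
    push_cast
    linarith

theorem fork_tight {N : ℕ} (hN : 4 ≤ N) (v : Fin N → Fin n) (hv : Function.Injective v)
    (htwo : ∀ i, T.IsMinusTwo (v i))
    (hpos : ∀ l, 0 < T.a (v ((forkE N).src l)) (v ((forkE N).tgt l)))
    (h0 : ∀ l, l.val = 0 → Heavy T (v ((forkE N).src l)) (v ((forkE N).tgt l))) :
    Tight T v (forkE N) (forkC N) (forkY N) := by
  refine tight T v hv htwo _ ⟨?_, ?_⟩ _ hpos (fun e => ?_) _ (fun i => ?_) (by omega) ?_
  · intro e e' _ h
    exact Fin.ext (by have := Fin.mk.inj_iff.1 h; omega)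
  · intro e e' h1 h2
    have h1' := congrArg Fin.val h1
    have h2' := congrArg Fin.val h2
    simp only [forkE] at h1' h2'
    have := e.isLt; have := e'.isLt
    split_ifs at h1' h2' <;> omega
  · simp only [forkC]
    split_ifs with h
    · exact (h0 e h).2
    · exact one_ww T (hpos e)
  · simp only [forkY]; split_ifs <;> positivity
  · have hy : ∀ i : Fin N, forkY N i ^ 2 = 4 - (if i.val = (⟨0, by omega⟩ : Fin N).val then 2 else 0) -
        (if i.val = (⟨N - 2, by omega⟩ : Fin N).val then 3 else 0) -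
        (if i.val = (⟨N - 1, by omega⟩ : Fin N).val then 3 else 0) := by
      intro i
      simp only [forkY]
      have := i.isLt
      rcases (by omega : i.val = 0 ∨ i.val + 2 = N ∨ i.val + 1 = N ∨ (i.val ≠ 0 ∧ i.val + 2 < N))
        with h | h | h | h
      · rw [if_pos h, if_pos h, if_neg (by omega), if_neg (by omega), Real.sq_sqrt (by norm_num)]; norm_num
      · rw [if_neg (by omega), if_neg (by omega), if_neg (by omega), if_pos (by omega), if_neg (by omega)]
        norm_num
      · rw [if_neg (by omega), if_neg (by omega), if_neg (by omega), if_neg (by omega), if_pos (by omega)]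
        norm_num
      · rw [if_neg h.1, if_pos h.2, if_neg h.1, if_neg (by omega), if_neg (by omega)]; norm_num
    have he : ∀ e : Fin (N - 1), √(forkC N e : ℝ) * (forkY N ((forkE N).src e) * forkY N ((forkE N).tgt e)) =
        4 - (if e.val = (⟨N - 3, by omega⟩ : Fin (N - 1)).val then 2 else 0) -
        (if e.val = (⟨N - 2, by omega⟩ : Fin (N - 1)).val then 2 else 0) := by
      intro e
      have h2 : √(2:ℝ) * (√2 * 2) = 4 := by
        rw [← mul_assoc, Real.mul_self_sqrt (by norm_num)]; norm_num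
      have := e.isLt
      dsimp only [forkE]; simp only [forkC, forkY]
      split_ifs <;> first | omega | contradiction | (simp only [Nat.cast_ofNat, Nat.cast_one, Real.sqrt_one]; linarith)
    rw [Finset.sum_congr rfl (fun i _ => hy i), Finset.sum_congr rfl (fun i _ => he i)]
    repeat rw [sum_sub_distrib]
    repeat rw [sum_single]
    simp only [sum_const, card_univ, Fintype.card_fin, nsmul_eq_mul]
    rw [Nat.cast_sub (by omega)]
    push_cast
    linarith

theorem dfork_tight {N : ℕ} (hN : 5 ≤ N) (v : Fin N → Fin n) (hv : Function.Injective v)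
    (htwo : ∀ i, T.IsMinusTwo (v i))
    (hpos : ∀ l, 0 < T.a (v ((dforkE N).src l)) (v ((dforkE N).tgt l))) :
    Tight T v (dforkE N) (fun _ => 1) (dforkY N) := by
  refine tight T v hv htwo _ ⟨?_, ?_⟩ _ hpos (fun e => one_ww T (hpos e)) _ (fun i => ?_) (by omega) ?_
  · intro e e' h1 h2
    have h1' := congrArg Fin.val h1
    have h2' := congrArg Fin.val h2
    simp only [dforkE] at h1' h2'
    have := e.isLt; have := e'.isLt
    exact Fin.ext (by split_ifs at h1' h2' <;> omega)
  · intro e e' h1 h2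
    have h1' := congrArg Fin.val h1
    have h2' := congrArg Fin.val h2
    simp only [dforkE] at h1' h2'
    have := e.isLt; have := e'.isLt
    split_ifs at h1' h2' <;> omega
  · simp only [dforkY]; split_ifs <;> positivity
  · have hy : ∀ i : Fin N, dforkY N i ^ 2 = 4 - (if i.val = (⟨0, by omega⟩ : Fin N).val then 3 else 0) -
        (if i.val = (⟨1, by omega⟩ : Fin N).val then 3 else 0) -
        (if i.val = (⟨N - 2, by omega⟩ : Fin N).val then 3 else 0) -
        (if i.val = (⟨N - 1, by omega⟩ : Fin N).val then 3 else 0) := by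
      intro i
      simp only [dforkY]
      have := i.isLt
      split_ifs <;> first | omega | contradiction | norm_num
    have he : ∀ e : Fin (N - 1), √((1 : ℕ) : ℝ) * (dforkY N ((dforkE N).src e) * dforkY N ((dforkE N).tgt e)) =
        4 - (if e.val = (⟨0, by omega⟩ : Fin (N - 1)).val then 2 else 0) -
        (if e.val = (⟨1, by omega⟩ : Fin (N - 1)).val then 2 else 0) -
        (if e.val = (⟨N - 3, by omega⟩ : Fin (N - 1)).val then 2 else 0) -
        (if e.val = (⟨N - 2, by omega⟩ : Fin (N - 1)).val then 2 else 0) := by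
      intro e
      have := e.isLt
      dsimp only [dforkE]; simp only [dforkY]
      split_ifs <;> first | omega | contradiction | norm_num
    rw [Finset.sum_congr rfl (fun i _ => hy i), Finset.sum_congr rfl (fun i _ => he i)]
    repeat rw [sum_sub_distrib]
    repeat rw [sum_single]
    simp only [sum_const, card_univ, Fintype.card_fin, nsmul_eq_mul]
    rw [Nat.cast_sub (by omega)]
    push_cast
    linarith

end Groth.Agent.NumTypeLib
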