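import Groth.Agent.NumTypeLib.Basic
import Mathlib.Data.Real.Sqrt
import Mathlib.Data.Fintype.Option
import Mathlib.Data.Fintype.Sum
import Mathlib.Tactic.Positivity
import Mathlib.Tactic.FinCases

/-!
# Negative definiteness on proper sets of (-2)-indices and the forbidden configurations
-/

namespace Groth.Agent.NumTypeLib

open Finset Real

variable {n : ℕ} (T : Models.NumericalType n)

/-- the data of a configuration of edges between chosen indices -/
structure Edges (ι κ : Type*) where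
  /-- first end -/
  src : κ → ι
  /-- second end -/
  tgt : κ → ι

/-- edges are pairwise different as unordered pairs -/
def Edges.Distinct {ι κ : Type*} (E : Edges ι κ) : Prop :=
  (∀ e e', E.src e = E.src e' → E.tgt e = E.tgt e' → e = e') ∧
    ∀ e e', E.src e = E.tgt e' → E.tgt e = E.src e' → False

instance {ι κ : Type*} [Fintype κ] [DecidableEq ι] [DecidableEq κ] (E : Edges ι κ) :
    Decidable E.Distinct := by
  unfold Edges.Distinct; infer_instance

lemma quad_lt {x : Fin n → ℝ} {k : Fin n} (hk : x k = 0) {l : Fin n} (hl : x l ≠ 0) :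
    ∑ i, ∑ j, (T.a i j : ℝ) * x i * x j < 0 := by
  let A : Matrix (Fin n) (Fin n) ℝ := fun i j => (T.a i j : ℝ)
  have hs : ∀ i j, A i j = A j i := fun i j => by simp [A, a_symm T i j]
  have hA : ∀ i j, i ≠ j → 0 ≤ A i j := fun i j h => by simpa [A] using T.offDiag_nonneg i j h
  have hm : ∀ i, 0 < (T.m i : ℝ) := fun i => by simpa using T.m_pos i
  have hAm : ∀ i, ∑ j, A i j * (T.m j : ℝ) = 0 := fun i => by
    simp only [A]; exact_mod_cast sum_row T i
  refine lt_of_le_of_ne (quad_nonpos A _ x hs hA hm hAm) fun h => hl ?_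
  have := quad_eq_zero A _ x hs hA hm hAm (fun I h1 h2 => by simpa [A] using T.connected I h1 h2) h l k
  rw [hk, zero_div, div_eq_zero_iff] at this
  exact this.resolve_right (hm l).ne'

theorem no_test {ι κ : Type*} [Fintype ι] [Fintype κ] (v : ι → Fin n) (hv : Function.Injective v)
    (hcard : Fintype.card ι < n) (htwo : ∀ i, T.IsMinusTwo (v i)) (E : Edges ι κ) (hE : E.Distinct)
    (c : κ → ℕ) (hpos : ∀ e, 0 < T.a (v (E.src e)) (v (E.tgt e)))
    (hc : ∀ e, (c e : ℤ) * (T.w (v (E.src e)) * T.w (v (E.tgt e))) ≤ T.a (v (E.src e)) (v (E.tgt e)) ^ 2)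
    (y : ι → ℝ) (hy : ∀ i, 0 ≤ y i) (i₀ : ι) (hy0 : y i₀ ≠ 0)
    (hsum : ∑ i, y i ^ 2 ≤ ∑ e, √(c e) * (y (E.src e) * y (E.tgt e))) : False := by
  classical
  let u : ι → ℝ := fun i => y i / √(T.w (v i))
  have hs : ∀ i, 0 < √(T.w (v i) : ℝ) := fun i => Real.sqrt_pos.2 (by exact_mod_cast T.w_pos _)
  let x : Fin n → ℝ := Function.extend v u 0
  have hx : ∀ i, x (v i) = u i := fun i => hv.extend_apply u 0 i
  obtain ⟨k, hk⟩ : ∃ k, ∀ i, v i ≠ k := by
    by_contra h
    push Not at h
    have := Fintype.card_le_of_surjective v h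
    rw [Fintype.card_fin] at this
    omega
  have hxk : x k = 0 := Function.extend_apply' _ _ _ (fun ⟨i, hi⟩ => hk i hi)
  have hneg := quad_lt T hxk (l := v i₀) (by rw [hx]; exact div_ne_zero hy0 (hs i₀).ne')
  have hred : ∑ i, ∑ j, (T.a i j : ℝ) * x i * x j =
      ∑ i : ι, ∑ j : ι, (T.a (v i) (v j) : ℝ) * u i * u j := by
    have hzero : ∀ l, (∀ i, v i ≠ l) → x l = 0 := fun l hl =>
      Function.extend_apply' _ _ _ (fun ⟨i, hi⟩ => hl i hi)
    symm
    refine Fintype.sum_of_injective v hv _ _ (fun l hl => ?_) (fun i => ?_)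
    · simp [hzero l (fun i hi => hl ⟨i, hi⟩)]
    · refine Fintype.sum_of_injective v hv _ _ (fun l hl => ?_) (fun j => by simp [hx])
      simp [hzero l (fun i hi => hl ⟨i, hi⟩)]
  rw [hred] at hneg
  let G : ι × ι → ℝ := fun p => (T.a (v p.1) (v p.2) : ℝ) * u p.1 * u p.2
  have hG : ∑ p, G p = ∑ i : ι, ∑ j : ι, (T.a (v i) (v j) : ℝ) * u i * u j := Fintype.sum_prod_type G
  rw [← hG, ← sum_filter_add_sum_filter_not univ (fun p : ι × ι => p.1 = p.2)] at hneg
  have hdiag : ∑ p ∈ univ.filter (fun p : ι × ι => p.1 = p.2), G p = -2 * ∑ i, y i ^ 2 := by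
    rw [show univ.filter (fun p : ι × ι => p.1 = p.2) = univ.diag by ext p; simp, sum_diag, mul_sum]
    refine sum_congr rfl fun i _ => ?_
    simp only [G, u, (htwo i).2]
    push_cast
    have := hs i
    field_simp
    rw [Real.sq_sqrt (by exact_mod_cast (T.w_pos _).le)]
    ring
  have hoff : 2 * ∑ e, √(c e) * (y (E.src e) * y (E.tgt e)) ≤
      ∑ p ∈ univ.filter (fun p : ι × ι => ¬p.1 = p.2), G p := by
    let φ : κ ⊕ κ → ι × ι := Sum.elim (fun e => (E.src e, E.tgt e)) (fun e => (E.tgt e, E.src e))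
    have hφ : Function.Injective φ := by
      rintro (e | e) (e' | e') h <;> simp only [φ, Sum.elim_inl, Sum.elim_inr, Prod.mk.injEq] at h
      · exact congrArg _ (hE.1 e e' h.1 h.2)
      · exact (hE.2 e e' h.1 h.2).elim
      · exact (hE.2 e e' h.2 h.1).elim
      · exact congrArg _ (hE.1 e e' h.2 h.1)
    have hne : ∀ e, E.src e ≠ E.tgt e := fun e h => hE.2 e e h h.symm
    have hnn : ∀ p ∈ univ.filter (fun p : ι × ι => ¬p.1 = p.2), 0 ≤ G p := fun p hp => by
      have h1 : (0 : ℝ) ≤ T.a (v p.1) (v p.2) := by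
        exact_mod_cast T.offDiag_nonneg _ _ (fun e => (mem_filter.1 hp).2 (hv e))
      have h2 := fun i => div_nonneg (hy i) (hs i).le
      exact mul_nonneg (mul_nonneg h1 (h2 _)) (h2 _)
    refine le_trans ?_ (sum_le_sum_of_subset_of_nonneg (s := univ.map ⟨φ, hφ⟩) ?_ fun p hp _ => hnn p hp)
    · rw [sum_map, Function.Embedding.coeFn_mk, Fintype.sum_sum_type, two_mul]
      have hbound : ∀ e, √(c e) * (y (E.src e) * y (E.tgt e)) ≤ G (E.src e, E.tgt e) := by
        intro e
        have hb : √(c e) * (√(T.w (v (E.src e))) * √(T.w (v (E.tgt e)))) ≤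
            (T.a (v (E.src e)) (v (E.tgt e)) : ℝ) := by
          rw [← Real.sqrt_mul (by exact_mod_cast (T.w_pos _).le),
            ← Real.sqrt_mul (Nat.cast_nonneg _), Real.sqrt_le_iff]
          exact ⟨by exact_mod_cast (hpos e).le, by exact_mod_cast hc e⟩
        have h1 := hs (E.src e)
        have h2 := hs (E.tgt e)
        have h3 := mul_le_mul_of_nonneg_right hb
          (mul_nonneg (div_nonneg (hy (E.src e)) h1.le) (div_nonneg (hy (E.tgt e)) h2.le))
        simp only [G, u]
        field_simp at h3 ⊢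
        linarith
      refine add_le_add (sum_le_sum fun e _ => hbound e) (sum_le_sum fun e _ => ?_)
      simp only [φ, Sum.elim_inr]
      refine (hbound e).trans_eq ?_
      simp only [G, a_symm T (v (E.tgt e))]
      ring
    · intro p hp
      simp only [mem_map, mem_univ, true_and, Function.Embedding.coeFn_mk] at hp
      obtain ⟨e | e, rfl⟩ := hp
      · simpa [φ] using hne e
      · simpa [φ] using (hne e).symm
  linarith

lemma one_ww {i j : Fin n} (h : 0 < T.a i j) : ((1 : ℕ) : ℤ) * (T.w i * T.w j) ≤ T.a i j ^ 2 := by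
  rw [Nat.cast_one, one_mul, sq]
  exact mul_le_mul (w_le_of_pos T h) (w_le_of_pos' T h) (T.w_pos j).le h.le

theorem no_many_edges {ι κ : Type*} [Fintype ι] [Fintype κ] (v : ι → Fin n) (hv : Function.Injective v)
    (hcard : Fintype.card ι < n) (htwo : ∀ i, T.IsMinusTwo (v i)) (E : Edges ι κ) (hE : E.Distinct)
    (hpos : ∀ e, 0 < T.a (v (E.src e)) (v (E.tgt e))) [Nonempty ι]
    (hle : Fintype.card ι ≤ Fintype.card κ) : False := by
  refine no_test T v hv hcard htwo E hE (fun _ => 1) hpos (fun e => one_ww T (hpos e)) (fun _ => 1)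
    (fun _ => zero_le_one) (Classical.arbitrary ι) one_ne_zero ?_
  simpa using hle

theorem tree_zero {ι κ : Type*} [Fintype ι] [Fintype κ] (v : ι → Fin n) (hv : Function.Injective v)
    (hcard : Fintype.card ι < n) (htwo : ∀ i, T.IsMinusTwo (v i)) (E : Edges ι κ) (hE : E.Distinct)
    (hpos : ∀ e, 0 < T.a (v (E.src e)) (v (E.tgt e)))
    (hle : Fintype.card ι ≤ Fintype.card κ + 1) (i j : ι) (hij : i ≠ j)
    (hnot : ∀ e, ¬(E.src e = i ∧ E.tgt e = j) ∧ ¬(E.src e = j ∧ E.tgt e = i)) :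
    T.a (v i) (v j) = 0 := by
  by_contra h
  haveI : Nonempty ι := ⟨i⟩
  have hp : 0 < T.a (v i) (v j) := lt_of_le_of_ne (T.offDiag_nonneg _ _ (fun e => hij (hv e))) (Ne.symm h)
  refine no_many_edges T v hv hcard htwo
    (⟨fun o => o.elim i E.src, fun o => o.elim j E.tgt⟩ : Edges ι (Option κ)) ⟨?_, ?_⟩ ?_ (by simpa using hle)
  · rintro (_ | e) (_ | e') h1 h2
    · rfl
    · exact absurd ⟨h1.symm, h2.symm⟩ (hnot e').1
    · exact absurd ⟨h1, h2⟩ (hnot e).1
    · exact congrArg _ (hE.1 e e' h1 h2)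
  · rintro (_ | e) (_ | e') h1 h2
    · exact hij h1
    · exact (hnot e').2 ⟨h2.symm, h1.symm⟩
    · exact (hnot e).2 ⟨h1, h2⟩
    · exact hE.2 e e' h1 h2
  · rintro (_ | e)
    · exact hp
    · exact hpos e

/-- a heavy edge: `a² ≥ 2 wᵢ wⱼ` -/
def Heavy (i j : Fin n) : Prop := 0 < T.a i j ∧ 2 * (T.w i * T.w j) ≤ T.a i j ^ 2

/-- a simple edge: `a = wᵢ = wⱼ` -/
def Simple (i j : Fin n) : Prop := T.a i j = T.w i ∧ T.w j = T.w i

lemma Heavy.symm {i j : Fin n} (h : Heavy T i j) : Heavy T j i := by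
  unfold Heavy at *; rw [a_symm T j i, mul_comm (T.w j)]; exact h

lemma Simple.symm {i j : Fin n} (h : Simple T i j) : Simple T j i := by
  unfold Simple at *; rw [a_symm T j i]; omega

theorem edge_split (hn : 2 < n) {i j : Fin n} (hi : T.IsMinusTwo i) (hj : T.IsMinusTwo j)
    (h : 0 < T.a i j) : Simple T i j ∨ ∃ k : ℤ, (k = 2 ∨ k = 3) ∧
      ((T.w j = k * T.w i ∧ T.a i j = k * T.w i) ∨ (T.w i = k * T.w j ∧ T.a i j = k * T.w j)) := by
  have hij := adj_ne T h
  obtain ⟨p, hp⟩ := T.w_dvd i j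
  obtain ⟨q, hq⟩ := T.w_dvd j i
  rw [a_symm T j i] at hq
  have hwi := T.w_pos i
  have hwj := T.w_pos j
  have hp0 : 0 < p := (pos_iff_pos_of_mul_pos (hp ▸ h)).1 hwi
  have hq0 : 0 < q := (pos_iff_pos_of_mul_pos (hq ▸ h)).1 hwj
  have hpq : p * q < 4 := by
    by_contra hc
    push Not at hc
    refine no_test T ![i, j] ?_ (by simpa using hn) ?_ (⟨fun _ : Fin 1 => 0, fun _ => 1⟩ : Edges (Fin 2) (Fin 1))
      (by decide) (fun _ => 4) (fun _ => by simpa using h) (fun _ => ?_) (fun _ => 1)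
      (fun _ => zero_le_one) 0 one_ne_zero ?_
    · intro a b hab
      fin_cases a <;> fin_cases b <;> simp_all
    · intro a; fin_cases a <;> assumption
    · simp only [Matrix.cons_val_zero, Matrix.cons_val_one, Nat.cast_ofNat]
      have : T.a i j ^ 2 = (p * q) * (T.w i * T.w j) := by rw [sq]; nth_rewrite 2 [hq]; rw [hp]; ring
      rw [this]; exact mul_le_mul_of_nonneg_right hc (mul_pos hwi hwj).le
    · simp; rw [show (4:ℝ) = 2 ^ 2 by norm_num, Real.sqrt_sq (by norm_num)]
  have hp3 : p ≤ 3 := by nlinarith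
  have hq3 : q ≤ 3 := by nlinarith
  unfold Simple
  rcases (by omega : p = 1 ∨ p = 2 ∨ p = 3) with rfl | rfl | rfl <;>
    rcases (by omega : q = 1 ∨ q = 2 ∨ q = 3) with rfl | rfl | rfl <;> norm_num at hpq
  · exact Or.inl (by omega)
  · exact Or.inr ⟨2, Or.inl rfl, Or.inr (by omega)⟩
  · exact Or.inr ⟨3, Or.inr rfl, Or.inr (by omega)⟩
  · exact Or.inr ⟨2, Or.inl rfl, Or.inl (by omega)⟩
  · exact Or.inr ⟨3, Or.inr rfl, Or.inl (by omega)⟩

theorem simple_or_heavy (hn : 2 < n) {i j : Fin n} (hi : T.IsMinusTwo i) (hj : T.IsMinusTwo j)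
    (h : 0 < T.a i j) : Simple T i j ∨ Heavy T i j := by
  have hwi := T.w_pos i
  have hwj := T.w_pos j
  rcases edge_split T hn hi hj h with hs | ⟨k, hk, ⟨h1, h2⟩ | ⟨h1, h2⟩⟩
  · exact Or.inl hs
  all_goals refine Or.inr ⟨h, ?_⟩
  · rw [h1, h2]; rcases hk with rfl | rfl <;> nlinarith
  · rw [h1, h2]; rcases hk with rfl | rfl <;> nlinarith

/-- A fork at the start of a path whose last edge is heavy is impossible. -/
theorem fork_heavy (k : ℕ) (v : Bool ⊕ Fin (k + 2) → Fin n) (hv : Function.Injective v)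
    (hcard : k + 4 < n) (htwo : ∀ i, T.IsMinusTwo (v i))
    (hl : ∀ b, 0 < T.a (v (.inl b)) (v (.inr 0)))
    (hp : ∀ i : Fin (k + 1), 0 < T.a (v (.inr i.castSucc)) (v (.inr i.succ)))
    (hheavy : Heavy T (v (.inr (Fin.last k).castSucc)) (v (.inr (Fin.last (k + 1))))) : False := by
  refine no_test T v hv (by simp only [Fintype.card_sum, Fintype.card_bool, Fintype.card_fin]; omega) htwo
    (⟨Sum.elim (fun b => .inl b) (fun i => .inr i.castSucc),
      Sum.elim (fun _ => .inr 0) (fun i => .inr i.succ)⟩ : Edges _ (Bool ⊕ Fin (k + 1))) ⟨?_, ?_⟩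
    (Sum.elim (fun _ => 1) (fun i => if i = Fin.last k then 2 else 1)) ?_ ?_
    (Sum.elim (fun _ => 1) (fun i => if i = Fin.last (k + 1) then √2 else 2)) ?_ (.inl true)
    (by simp) ?_
  · rintro (b | i) (b' | i') h1 h2 <;> simp_all
  · rintro (b | i) (b' | i') h1 h2 <;>
      simp only [Sum.elim_inl, Sum.elim_inr, reduceCtorEq, Sum.inr.injEq] at h1 h2
    have h3 := congrArg Fin.val h1
    have h4 := congrArg Fin.val h2
    simp only [Fin.val_castSucc, Fin.val_succ] at h3 h4
    omega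
  · rintro (b | i)
    · exact hl b
    · exact hp i
  · rintro (b | i)
    · exact one_ww T (hl b)
    · simp only [Sum.elim_inr]
      split_ifs with h
      · subst h; exact hheavy.2
      · exact one_ww T (hp i)
  · rintro (b | i)
    · simp
    · simp only [Sum.elim_inr]; split_ifs <;> positivity
  · have h2 : √(2:ℝ) ^ 2 = 2 := Real.sq_sqrt (by norm_num)
    have hk : ∀ i : Fin k, (Fin.succ i.castSucc : Fin (k + 2)) ≠ Fin.last (k + 1) := fun i => by
      simp [Fin.ext_iff]; omega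
    have hk' : ∀ i : Fin k, (i.castSucc.castSucc : Fin (k + 2)) ≠ Fin.last (k + 1) :=
      fun i => (Fin.castSucc_lt_last _).ne
    simp [Fin.sum_univ_castSucc, hk, hk', (Fin.castSucc_lt_last _).ne, Fin.succ_last]
    nlinarith

/-- A path with heavy edges at both ends is impossible. -/
theorem double_heavy (k : ℕ) (v : Fin (k + 3) → Fin n) (hv : Function.Injective v)
    (hcard : k + 3 < n) (htwo : ∀ i, T.IsMinusTwo (v i))
    (hp : ∀ i : Fin (k + 2), 0 < T.a (v i.castSucc) (v i.succ))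
    (h0 : Heavy T (v 0) (v 1))
    (hheavy : Heavy T (v (Fin.last (k + 1)).castSucc) (v (Fin.last (k + 2)))) : False := by
  refine no_test T v hv (by simpa using hcard) htwo
    (⟨fun i => i.castSucc, fun i => i.succ⟩ : Edges _ (Fin (k + 2))) ⟨?_, ?_⟩
    (fun i => if i = 0 ∨ i = Fin.last (k + 1) then 2 else 1) hp ?_
    (fun i => if i = 0 ∨ i = Fin.last (k + 2) then 1 else √2) ?_ 0 (by simp) ?_
  · intro e e' h1 _; exact Fin.castSucc_injective _ h1
  · intro e e' h1 h2
    have h3 := congrArg Fin.val h1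
    have h4 := congrArg Fin.val h2
    simp only [Fin.val_castSucc, Fin.val_succ] at h3 h4
    omega
  · intro i
    simp only
    split_ifs with h
    · rcases h with rfl | rfl
      · simpa using h0.2
      · simpa using hheavy.2
    · exact one_ww T (hp i)
  · intro i; split_ifs <;> positivity
  · have h2 : √(2:ℝ) * √2 = 2 := Real.mul_self_sqrt (by norm_num)
    have hm : ∀ i : Fin (k + 1),
        ¬((i.castSucc.succ : Fin (k + 3)) = 0 ∨ i.castSucc.succ = Fin.last (k + 2)) := by
      rintro i (h | h) <;> have h' := congrArg Fin.val h <;>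
        simp only [Fin.val_castSucc, Fin.val_succ, Fin.val_zero, Fin.val_last] at h' <;> omega
    have hm0 : ∀ i : Fin k,
        ¬((i.castSucc.succ : Fin (k + 2)) = 0 ∨ i.castSucc.succ = Fin.last (k + 1)) := by
      rintro i (h | h) <;> have h' := congrArg Fin.val h <;>
        simp only [Fin.val_castSucc, Fin.val_succ, Fin.val_zero, Fin.val_last] at h' <;> omega
    have hm1 : ∀ i : Fin k,
        ¬((i.castSucc.succ.castSucc : Fin (k + 3)) = 0 ∨ i.castSucc.succ.castSucc = Fin.last (k + 2)) ∧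
        ¬((i.castSucc.succ.succ : Fin (k + 3)) = 0 ∨ i.castSucc.succ.succ = Fin.last (k + 2)) := by
      intro i
      constructor <;> rintro (h | h) <;> have h' := congrArg Fin.val h <;>
        simp only [Fin.val_castSucc, Fin.val_succ, Fin.val_zero, Fin.val_last] at h' <;> omega
    have ha : ¬((Fin.succ 0 : Fin (k + 3)) = 0 ∨ Fin.succ 0 = Fin.last (k + 2)) := by
      rintro (h | h) <;> have h' := congrArg Fin.val h <;>
        simp only [Fin.val_succ, Fin.val_zero, Fin.val_last] at h' <;> omega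
    have hb : ¬(((Fin.last k).succ.castSucc : Fin (k + 3)) = 0 ∨
        (Fin.last k).succ.castSucc = Fin.last (k + 2)) := by
      rintro (h | h) <;> have h' := congrArg Fin.val h <;>
        simp only [Fin.val_castSucc, Fin.val_succ, Fin.val_zero, Fin.val_last] at h' <;> omega
    conv_lhs => rw [Fin.sum_univ_succ, Fin.sum_univ_castSucc]
    conv_rhs => rw [Fin.sum_univ_succ, Fin.sum_univ_castSucc]
    dsimp only
    simp only [hm, hm0, (hm1 _).1, (hm1 _).2, ha, hb, Fin.castSucc_zero, Fin.succ_last, true_or,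
      or_true, if_true, if_false, Nat.cast_one, Real.sqrt_one, Nat.cast_ofNat, one_mul, mul_one,
      one_pow, sum_const, card_univ, Fintype.card_fin, nsmul_eq_mul]
    rw [Fin.succ_last] at hb
    simp only [hb, if_false, sq, h2]
    push_cast
    linarith

end Groth.Agent.NumTypeLib
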